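import Mathlib

/-!
Powers of primes next to powers of two.
-/

set_option autoImplicit false

namespace CfsgLib.Spectrum

theorem odd_pow_expand (x : ℤ) : ∀ k : ℕ, ∃ t : ℤ, (x - 1) ^ (2 * k + 1) = (2 * k + 1) * x - 1 + x ^ 2 * t
  | 0 => ⟨0, by push_cast; ring⟩
  | k + 1 => by
    obtain ⟨t, ht⟩ := odd_pow_expand x k
    refine ⟨(2 * k + 1) * x - 4 * k - 3 + (x ^ 2 - 2 * x + 1) * t, ?_⟩
    rw [show 2 * (k + 1) + 1 = 2 * k + 1 + 2 by ring, pow_add, ht]
    push_cast
    ring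

/-- A proper power is never one less than a power of two. -/
theorem eq_one_of_pow_add_one_eq_two_pow {p e N : ℕ} (hp : 2 ≤ p) (he : 1 ≤ e)
    (h : p ^ e + 1 = 2 ^ N) : e = 1 := by
  have hN : 2 ≤ N := by
    by_contra hN
    have : 2 ≤ p ^ e := le_trans hp (Nat.le_self_pow (by omega) p)
    interval_cases N <;> simp at h <;> omega
  have hodd : Odd p := by
    by_contra hev
    rw [Nat.not_odd_iff_even] at hev
    obtain ⟨a, ha⟩ := (hev.pow_of_ne_zero (show e ≠ 0 by omega))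
    obtain ⟨b, hb⟩ : Even (2 ^ N) := (even_two).pow_of_ne_zero (by omega)
    omega
  rcases Nat.even_or_odd' e with ⟨k, rfl | rfl⟩
  · exfalso
    obtain ⟨a, ha⟩ := hodd.pow (n := k)
    rw [mul_comm 2 k, pow_mul, ha, show (2 * a + 1) ^ 2 + 1 = 4 * (a * a + a) + 2 by ring,
      show N = 2 + (N - 2) by omega, pow_add] at h
    omega
  · obtain ⟨i, hi, hi'⟩ : ∃ i, i ≤ N ∧ p + 1 = 2 ^ i := by
      refine (Nat.dvd_prime_pow Nat.prime_two).1 ?_
      rw [← h]
      have := Odd.nat_add_dvd_pow_add_pow p 1 (n := 2 * k + 1) ⟨k, rfl⟩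
      rwa [one_pow] at this
    by_contra hk
    have hlt : i < N := by
      refine lt_of_le_of_ne hi fun e => ?_
      rw [← e, ← hi'] at h
      have : p ^ 1 < p ^ (2 * k + 1) := Nat.pow_lt_pow_right (by omega) (by omega)
      rw [pow_one] at this
      omega
    obtain ⟨t, ht⟩ := odd_pow_expand ((2 : ℤ) ^ i) k
    have hp' : (2 : ℤ) ^ i - 1 = p := by
      have : ((p + 1 : ℕ) : ℤ) = ((2 ^ i : ℕ) : ℤ) := by rw [hi']
      push_cast at this
      linarith
    have h' : (p : ℤ) ^ (2 * k + 1) + 1 = (2 : ℤ) ^ N := by exact_mod_cast h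
    rw [← hp', ht, show N = i + 1 + (N - i - 1) by omega, pow_add, pow_add, pow_one] at h'
    have hfac : (2 : ℤ) ^ i * (2 * k + 1) = (2 : ℤ) ^ i * (2 * 2 ^ (N - i - 1) - 2 ^ i * t) := by
      linear_combination h'
    have h3 := mul_left_cancel₀ (pow_ne_zero _ (by norm_num : (2 : ℤ) ≠ 0)) hfac
    have hi1 : 1 ≤ i := by
      rcases Nat.eq_zero_or_pos i with rfl | hpos
      · simp at hi'; omega
      · exact hpos
    obtain ⟨c, hc⟩ : (2 : ℤ) ∣ 2 ^ i := dvd_pow_self 2 (by omega)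
    have h4 : (2 : ℤ) ∣ 2 * k + 1 := ⟨2 ^ (N - i - 1) - c * t, by rw [h3, hc]; ring⟩
    omega

/-- A proper power one more than a power of two is nine. -/
theorem eq_nine_of_two_pow_add_one {q e N : ℕ} (hq : 2 ≤ q) (hN : 2 ≤ N) (h : 2 ^ e + 1 = q ^ N) :
    q = 3 ∧ N = 2 ∧ e = 3 := by
  have hodd : Odd q := by
    by_contra hev
    rw [Nat.not_odd_iff_even] at hev
    have h4 : 4 ≤ q ^ N := le_trans (Nat.pow_le_pow_left hq 2) (Nat.pow_le_pow_right (by omega) hN)
    obtain ⟨a, ha⟩ := hev.pow_of_ne_zero (show N ≠ 0 by omega)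
    rcases Nat.eq_zero_or_pos e with rfl | he
    · simp at h; omega
    · obtain ⟨b, hb⟩ : Even (2 ^ e) := even_two.pow_of_ne_zero (by omega)
      omega
  rcases Nat.even_or_odd' N with ⟨k, rfl | rfl⟩
  · have hk : 1 ≤ k := by omega
    have h1 : 3 ≤ q ^ k := by
      have : q ≤ q ^ k := Nat.le_self_pow (by omega) q
      obtain ⟨a, ha⟩ := hodd
      omega
    obtain ⟨m, hm⟩ : ∃ m, q ^ k = m + 1 := ⟨q ^ k - 1, by omega⟩
    have h2 : 2 ^ e = m * (m + 2) := by
      rw [mul_comm 2 k, pow_mul, hm] at h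
      nlinarith
    obtain ⟨i, -, hi⟩ := (Nat.dvd_prime_pow Nat.prime_two).1 (show m ∣ 2 ^ e from ⟨m + 2, h2⟩)
    obtain ⟨j, -, hj⟩ := (Nat.dvd_prime_pow Nat.prime_two).1 (show m + 2 ∣ 2 ^ e from ⟨m, by rw [h2]; ring⟩)
    have hi1 : 1 ≤ i := by
      rcases Nat.eq_zero_or_pos i with rfl | hpos
      · simp at hi; omega
      · exact hpos
    have hm2 : m = 2 := by
      rcases Nat.lt_or_ge i 2 with hlt | hge
      · rw [hi, show i = 1 by omega]; rfl
      · exfalso
        obtain ⟨a, ha⟩ : 4 ∣ m := hi ▸ ((show 4 = 2 ^ 2 from rfl) ▸ pow_dvd_pow 2 hge)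
        rcases Nat.lt_or_ge j 2 with hjlt | hjge
        · interval_cases j <;> (simp at hj; try omega)
        · obtain ⟨b, hb⟩ : 4 ∣ m + 2 := hj ▸ ((show 4 = 2 ^ 2 from rfl) ▸ pow_dvd_pow 2 hjge)
          omega
    have hq3 : q = 3 := by
      rw [hm2] at hm
      have : q ∣ 3 := ⟨q ^ (k - 1), by rw [← pow_succ', show k - 1 + 1 = k by omega]; omega⟩
      rcases (Nat.dvd_prime Nat.prime_three).1 this with r | r <;> omega
    have hk1 : k = 1 := by
      rw [hm2, hq3] at hm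
      by_contra hne
      have : 3 ^ 2 ≤ 3 ^ k := Nat.pow_le_pow_right (by norm_num) (by omega)
      omega
    refine ⟨hq3, by omega, ?_⟩
    rw [hm2] at h2
    exact Nat.pow_right_injective le_rfl (show 2 ^ e = 2 ^ 3 by rw [h2])
  · exfalso
    have h1 := geom_sum_mul_add (q - 1) (2 * k + 1)
    rw [show q - 1 + 1 = q by omega] at h1
    set S := ∑ i ∈ Finset.range (2 * k + 1), q ^ i with hS
    have hSdvd : S ∣ 2 ^ e := ⟨q - 1, by omega⟩
    have hSodd : S % 2 = 1 := by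
      have hone : ∀ i, q ^ i % 2 = 1 := fun i => Nat.odd_iff.1 hodd.pow
      rw [hS, Finset.sum_nat_mod]
      simp only [hone, Finset.sum_const, Finset.card_range, smul_eq_mul, mul_one]
      omega
    have hS1 : 1 < S := by
      rw [hS, Finset.sum_range_succ]
      have : 2 ≤ q ^ (2 * k) := le_trans hq (Nat.le_self_pow (by omega) q)
      omega
    obtain ⟨i, -, hi⟩ := (Nat.dvd_prime_pow Nat.prime_two).1 hSdvd
    rcases Nat.eq_zero_or_pos i with rfl | hpos
    · simp at hi; omega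
    · obtain ⟨c, hc⟩ : 2 ∣ S := hi ▸ dvd_pow_self 2 (by omega)
      omega

end CfsgLib.Spectrum
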