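import Cfsg.Agent.Lib.CIT.Basic
import Cfsg.Agent.S0215
import Cfsg.Agent.Lib.Cores.FPF
import Mathlib.GroupTheory.SpecificGroups.ZGroup
import Mathlib.GroupTheory.Solvable
import Mathlib.GroupTheory.IsSubnormal
import Mathlib.GroupTheory.Sylow

/-!
Non-soluble groups in which the centraliser of every involution is a 2-group: the soluble radical
is the 2-core, and modulo it there is a unique minimal normal subgroup, which is simple.
-/

set_option autoImplicit false

open Cfsg

namespace CfsgLib.Spectrum.CITStructure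

open CfsgLib.CIT

variable {G : Type*} [Group G] [Finite G]

/-- A non-soluble group of even order in which involution centralisers are 2-groups has no odd
order normal subgroup other than the trivial one. -/
theorem odd_normal_eq_bot (hG : IsCIT G) (hns : ¬ Group.IsSolvable G) (h2 : 2 ∣ Nat.card G)
    (W : Subgroup G) [W.Normal] (hW : Odd (Nat.card W)) : W = ⊥ := by
  classical
  by_contra hne
  haveI : Fact (Nat.Prime 2) := ⟨Nat.prime_two⟩
  obtain ⟨t, ht⟩ := exists_prime_orderOf_dvd_card' 2 h2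
  have hWodd : ∀ w ∈ W, Odd (orderOf w) := fun w hw => by
    rw [← Subgroup.orderOf_mk w hw]
    exact hW.of_dvd_nat (orderOf_dvd_natCard _)
  have hinv : ∀ s : G, orderOf s = 2 → ∀ w ∈ W, s * w * s⁻¹ = w⁻¹ := by
    intro s hs w hw
    have hss : s * s = 1 := by rw [← pow_two, ← hs, pow_orderOf_eq_one]
    let φ : W →* W := MonoidHom.mk' (fun v => ⟨s * v * s⁻¹, (inferInstance : W.Normal).conj_mem _ v.2 _⟩)
      fun v v' => Subtype.ext (by show s * ((v : G) * v') * s⁻¹ = s * v * s⁻¹ * (s * v' * s⁻¹); group)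
    have hfree : MonoidHom.FixedPointFree (φ : W → W) := fun v hv => by
      have h1 : s * (v : G) * s⁻¹ = v := congrArg Subtype.val hv
      exact Subtype.ext (hG.eq_one_of_commute (by rw [hs]) (hWodd v v.2) (mul_inv_eq_iff_eq_mul.1 h1))
    have hinvol : Function.Involutive φ := fun v => Subtype.ext (by
      show s * (s * v * s⁻¹) * s⁻¹ = v
      rw [show s * (s * (v : G) * s⁻¹) * s⁻¹ = (s * s) * v * (s * s)⁻¹ by group, hss]
      simp)
    exact congrArg Subtype.val (congrFun (hfree.coe_eq_inv_of_involutive hinvol) ⟨w, hw⟩)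
  obtain ⟨⟨w₀, hw₀⟩, hw₀1⟩ := Subgroup.ne_bot_iff_exists_ne_one.1 hne
  have huniq : ∀ s, orderOf s = 2 → Commute t s → s = t := by
    intro s hs hc
    by_contra hne'
    have hts : orderOf (t * s) = 2 := by
      refine orderOf_eq_prime ?_ fun e => hne' ?_
      · rw [hc.mul_pow, ← hs, pow_orderOf_eq_one, mul_one, hs, ← ht, pow_orderOf_eq_one]
      · have htt : t * t = 1 := by rw [← pow_two, ← ht, pow_orderOf_eq_one]
        calc s = t * t * s := by rw [htt, one_mul]
          _ = t := by rw [mul_assoc, e, mul_one]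
    refine hw₀1 (Subtype.ext (hG.eq_one_of_commute (a := t * s) (by rw [hts]) (hWodd w₀ hw₀) ?_))
    refine mul_inv_eq_iff_eq_mul.1 ?_
    calc t * s * w₀ * (t * s)⁻¹ = t * (s * w₀ * s⁻¹) * t⁻¹ := by group
      _ = t * w₀⁻¹ * t⁻¹ := by rw [hinv s hs w₀ hw₀]
      _ = w₀ := by rw [hinv t ht w₀⁻¹ (W.inv_mem hw₀), inv_inv]
  obtain ⟨P, hP⟩ : ∃ P : Sylow 2 G, Subgroup.zpowers t ≤ P :=
    (IsPGroup.of_card (n := 1) (by rw [Nat.card_zpowers, ht, pow_one])).exists_le_sylow
  have htP : t ∈ (P : Subgroup G) := hP (Subgroup.mem_zpowers t)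
  -- the unique involution of a Sylow subgroup
  obtain ⟨z, hzP, hz, hzc⟩ : ∃ z ∈ (P : Subgroup G), orderOf z = 2 ∧
      ∀ y ∈ (P : Subgroup G), Commute z y := by
    haveI : Nontrivial (P : Subgroup G) :=
      ⟨⟨⟨t, htP⟩, 1, fun e => by
        have : t = 1 := congrArg Subtype.val e
        rw [this, orderOf_one] at ht
        omega⟩⟩
    haveI := P.2.center_nontrivial
    have h2c : 2 ∣ Nat.card (Subgroup.center (P : Subgroup G)) := by
      obtain ⟨k, hk⟩ := IsPGroup.iff_card.1
        (P.2.to_subgroup (Subgroup.center (P : Subgroup G)))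
      rw [hk]
      refine dvd_pow_self 2 fun h0 => ?_
      rw [h0, pow_zero] at hk
      exact (Finite.one_lt_card (α := Subgroup.center (P : Subgroup G))).ne' hk
    obtain ⟨z, hz⟩ := exists_prime_orderOf_dvd_card' 2 h2c
    refine ⟨((z : (P : Subgroup G)) : G), (z : (P : Subgroup G)).2, ?_, fun y hy => ?_⟩
    · rw [Subgroup.orderOf_coe, Subgroup.orderOf_coe, hz]
    · exact (congrArg Subtype.val (Subgroup.mem_center_iff.1 z.2 ⟨y, hy⟩)).symm
  have hzt : z = t := huniq z hz (hzc t htP).symm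
  subst hzt
  obtain ⟨N, hN, hNodd, hNt⟩ := Cfsg.Agent.S0215.result P z hz hzP fun g hg =>
    huniq _ (by rw [Involutions.orderOf_conj, hz]) (hzc _ hg)
  haveI := hN
  have hNodd' : ∀ w ∈ N, Odd (orderOf w) := fun w hw => by
    rw [← Subgroup.orderOf_mk w hw]
    exact hNodd.of_dvd_nat (orderOf_dvd_natCard _)
  -- both `N` and `G / N` are soluble
  have hNab : ∀ v w : N, v * w = w * v := by
    intro v w
    have hinvN : ∀ v : N, z * (v : G) * z⁻¹ = (v : G)⁻¹ := by
      have hzz : z * z = 1 := by rw [← pow_two, ← hz, pow_orderOf_eq_one]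
      let φ : N →* N := MonoidHom.mk' (fun v => ⟨z * v * z⁻¹, hN.conj_mem _ v.2 _⟩)
        fun v v' => Subtype.ext (by show z * ((v : G) * v') * z⁻¹ = z * v * z⁻¹ * (z * v' * z⁻¹); group)
      have hfree : MonoidHom.FixedPointFree (φ : N → N) := fun v hv => by
        have h1 : z * (v : G) * z⁻¹ = v := congrArg Subtype.val hv
        exact Subtype.ext (hG.eq_one_of_commute (by rw [hz]) (hNodd' v v.2)
          (mul_inv_eq_iff_eq_mul.1 h1))
      have hinvol : Function.Involutive φ := fun v => Subtype.ext (by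
        show z * (z * v * z⁻¹) * z⁻¹ = v
        rw [show z * (z * (v : G) * z⁻¹) * z⁻¹ = (z * z) * v * (z * z)⁻¹ by group, hzz]
        simp)
      exact fun v => congrArg Subtype.val (congrFun (hfree.coe_eq_inv_of_involutive hinvol) v)
    have h := hinvN (v * w)
    rw [Subgroup.coe_mul, show z * ((v : G) * w) * z⁻¹ = (z * v * z⁻¹) * (z * w * z⁻¹) by group,
      hinvN v, hinvN w, ← mul_inv_rev, inv_inj] at h
    exact Subtype.ext h.symm
  haveI : Group.IsSolvable N := Group.isSolvable_of_comm hNab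
  have hq : IsPGroup 2 (G ⧸ N) := by
    have hzbar : ∀ g : G, Commute (QuotientGroup.mk' N z) (QuotientGroup.mk' N g) := by
      intro g
      have : QuotientGroup.mk' N (z * g * z⁻¹ * g⁻¹) = 1 := (QuotientGroup.eq_one_iff _).2 (hNt g)
      rw [map_mul, map_mul, map_mul, map_inv, map_inv, mul_inv_eq_one, mul_inv_eq_iff_eq_mul] at this
      exact this
    rw [IsPGroup.iff_card]
    by_contra hcon
    obtain ⟨r, hr, hrd, hr2⟩ : ∃ r, Nat.Prime r ∧ r ∣ Nat.card (G ⧸ N) ∧ r ≠ 2 := by
      by_contra! hall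
      exact hcon ⟨_, Nat.eq_prime_pow_of_unique_prime_dvd Nat.card_pos.ne' fun hq hd => hall _ hq hd⟩
    haveI : Fact r.Prime := ⟨hr⟩
    obtain ⟨x', hx'⟩ := exists_prime_orderOf_dvd_card' r hrd
    obtain ⟨x, rfl⟩ := QuotientGroup.mk'_surjective N x'
    -- a conjugate `z'` of `z` inside `zN` commutes with a lift
    let P' := Subgroup.zpowers (QuotientGroup.mk' N x)
    obtain ⟨a, b, hb, hab⟩ : ∃ a b : G, b ∈ N ∧ b * z * b⁻¹ = x * z * x⁻¹ ∧ a = b⁻¹ * x := by
      have hxz : x * z * x⁻¹ * z⁻¹ ∈ N := by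
        have := hN.conj_mem _ (N.inv_mem (hNt x)) z⁻¹
        have h3 := hNt x
        have h4 : (z * x * z⁻¹ * x⁻¹)⁻¹ = x * z * x⁻¹ * z⁻¹ := by group
        exact h4 ▸ N.inv_mem h3
      obtain ⟨k, hk⟩ := hNodd' _ hxz
      set c := x * z * x⁻¹ * z⁻¹ with hc
      have hzc' : z * c * z⁻¹ = c⁻¹ := by
        have hzz : z * z = 1 := by rw [← pow_two, ← hz, pow_orderOf_eq_one]
        have hzi : z⁻¹ = z := inv_eq_of_mul_eq_one_right hzz
        rw [hc, hzi, show (x * z * x⁻¹ * z)⁻¹ = z⁻¹ * x * z⁻¹ * x⁻¹ by group, hzi]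
        calc z * (x * z * x⁻¹ * z) * z = z * x * z * x⁻¹ * (z * z) := by group
          _ = z * x * z * x⁻¹ := by rw [hzz, mul_one]
      -- `c` is a square of an element of `N`
      refine ⟨_, c ^ (k + 1), pow_mem hxz _, ?_, rfl⟩
      have h1 : z * (c ^ (k + 1))⁻¹ * z⁻¹ = c ^ (k + 1) := by
        rw [← inv_pow, ← conj_pow, ← hzc', show z * (z * c * z⁻¹) * z⁻¹ = (z * z) * c * (z * z)⁻¹ by group,
          show z * z = 1 by rw [← pow_two, ← hz, pow_orderOf_eq_one]]
        simp
      calc c ^ (k + 1) * z * (c ^ (k + 1))⁻¹ = c ^ (k + 1) * (z * (c ^ (k + 1))⁻¹ * z⁻¹) * z := by group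
        _ = c ^ (k + 1) * c ^ (k + 1) * z := by rw [h1]
        _ = c * z := by
          rw [← pow_add, show k + 1 + (k + 1) = orderOf c + 1 by omega, pow_succ,
            pow_orderOf_eq_one, one_mul]
        _ = x * z * x⁻¹ := by rw [hc]; group
    obtain ⟨hab, ha⟩ := hab
    have haz : Commute z a := by
      have h2 : a * z * a⁻¹ = z := by
        rw [ha, show b⁻¹ * x * z * (b⁻¹ * x)⁻¹ = b⁻¹ * (x * z * x⁻¹) * b by group, ← hab]
        group
      exact (mul_inv_eq_iff_eq_mul.1 h2).symm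
    obtain ⟨j, hj⟩ := hG z hz ⟨a, Subgroup.mem_centralizer_singleton_iff.2 haz.eq.symm⟩
    have hj' : a ^ 2 ^ j = 1 := congrArg Subtype.val hj
    have hax : QuotientGroup.mk' N a = QuotientGroup.mk' N x := by
      rw [ha, map_mul, map_inv, show QuotientGroup.mk' N b = 1 from (QuotientGroup.eq_one_iff _).2 hb,
        inv_one, one_mul]
    have h5 : orderOf (QuotientGroup.mk' N x) ∣ 2 ^ j := orderOf_dvd_of_pow_eq_one (by
      rw [← hax, ← map_pow, hj', map_one])
    rw [hx'] at h5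
    exact hr2 ((Nat.prime_dvd_prime_iff_eq hr Nat.prime_two).1 (hr.dvd_of_dvd_pow h5))
  haveI := hq.isNilpotent
  exact hns (Group.isSolvable_of_ker_le_range N.subtype (QuotientGroup.mk' N)
    (by rw [QuotientGroup.ker_mk', Subgroup.range_subtype]))

/-- A nontrivial soluble normal subgroup contains a nontrivial normal 2-subgroup. -/
theorem exists_two_normal (hG : IsCIT G) (hns : ¬ Group.IsSolvable G) (h2 : 2 ∣ Nat.card G)
    (R : Subgroup G) [R.Normal] [Group.IsSolvable R] (hR : R ≠ ⊥) : pCore 2 G ≠ ⊥ := by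
  classical
  haveI : Nontrivial R := (Subgroup.nontrivial_iff_ne_bot R).2 hR
  have hex : ∃ n, derivedSeries R n = ⊥ := (Group.isSolvable_def _).1 inferInstance
  have hk := Nat.find_spec hex
  obtain ⟨m, hm⟩ : ∃ m, Nat.find hex = m + 1 := by
    refine Nat.exists_eq_succ_of_ne_zero fun h0 => ?_
    rw [h0, derivedSeries_zero] at hk
    exact top_ne_bot hk
  set A := derivedSeries R m with hA
  have hAne : A ≠ ⊥ := Nat.find_min hex (by omega)
  haveI : A.Characteristic := derivedSeries_characteristic R m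
  have hAab : ∀ x y : A, x * y = y * x := by
    have h : ⁅A, A⁆ = ⊥ := by rw [hA, ← derivedSeries_succ, ← hm]; exact hk
    intro x y
    exact Subtype.ext (Subgroup.mem_centralizer_iff.1
      (Subgroup.commutator_eq_bot_iff_le_centralizer.1 h x.2) y y.2).symm
  set A' := A.map R.subtype with hA'
  have hA'ne : A' ≠ ⊥ := by
    rw [hA', Ne, Subgroup.map_eq_bot_iff_of_injective _ R.subtype_injective]; exact hAne
  obtain ⟨p, hp, hpd⟩ : ∃ p, Nat.Prime p ∧ p ∣ Nat.card A' :=
    Nat.exists_prime_and_dvd fun h => hA'ne (Subgroup.card_eq_one.1 h)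
  haveI : Fact p.Prime := ⟨hp⟩
  obtain ⟨Q⟩ : Nonempty (Sylow p A') := inferInstance
  haveI hAn : A'.Normal := inferInstance
  have hab' : ∀ x y : A', x * y = y * x := by
    rintro ⟨x, x', hx', rfl⟩ ⟨y, y', hy', rfl⟩
    exact Subtype.ext (congrArg (fun w : A => ((w : R) : G)) (hAab ⟨x', hx'⟩ ⟨y', hy'⟩))
  haveI : (Q : Subgroup A').Normal := ⟨fun v hv g => by rw [hab' g v, mul_inv_cancel_right]; exact hv⟩
  haveI := Sylow.characteristic_of_normal Q inferInstance
  set Q' := (Q : Subgroup A').map A'.subtype with hQ'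
  have hQne : Q' ≠ ⊥ := by
    rw [hQ', Ne, Subgroup.map_eq_bot_iff_of_injective _ A'.subtype_injective]
    exact Q.ne_bot_of_dvd_card hpd
  have hQp : IsPGroup p Q' := Q.2.map _
  by_cases hp2 : p = 2
  · subst hp2
    intro hb
    exact hQne (le_bot_iff.1 (hb ▸ Cores.le_pCore (N := Q') hQp))
  · obtain ⟨k, hk'⟩ := IsPGroup.iff_card.1 hQp
    exact absurd (odd_normal_eq_bot hG hns h2 Q' (by rw [hk']; exact (hp.odd_of_ne_two hp2).pow)) hQne

/-- A non-soluble group with the property does not become of odd order modulo its 2-core. -/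
theorem two_dvd_card_quotient (hG : IsCIT G) (hns : ¬ Group.IsSolvable G) (h2 : 2 ∣ Nat.card G) :
    2 ∣ Nat.card (G ⧸ pCore 2 G) := by
  classical
  set E := pCore 2 G
  have hE : IsPGroup 2 E := Cores.isPGroup_pCore 2 G
  haveI : Group.IsNilpotent E := hE.isNilpotent
  have hns' : ¬ Group.IsSolvable (G ⧸ E) := fun h => hns (Group.isSolvable_of_ker_le_range E.subtype
    (QuotientGroup.mk' E) (by rw [QuotientGroup.ker_mk', Subgroup.range_subtype]))
  by_contra h
  obtain ⟨k, hk⟩ := IsPGroup.iff_card.1 hE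
  by_cases hE1 : E = ⊥
  · have h1 := Subgroup.card_eq_card_quotient_mul_card_subgroup E
    rw [hE1, Subgroup.card_bot, mul_one] at h1
    exact h (by rw [hE1, ← h1]; exact h2)
  -- an element of odd order acts fixed-point-freely on the 2-core
  refine hns' ?_
  haveI : Fact (Nat.Prime 2) := ⟨Nat.prime_two⟩
  obtain ⟨K, hK⟩ := Subgroup.exists_right_complement'_of_coprime (N := E) (by
    rw [hk]
    exact Nat.Coprime.pow_left k ((Nat.prime_two.coprime_iff_not_dvd).2 (by
      rwa [Subgroup.index_eq_card])))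
  have hKodd : ¬ 2 ∣ Nat.card K := by
    rw [← hK.symm.index_eq_card, Subgroup.index_eq_card]; exact h
  have hKodd' : ∀ a ∈ K, Odd (orderOf a) := fun a ha => by
    rw [← Nat.not_even_iff_odd, even_iff_two_dvd, ← Subgroup.orderOf_mk a ha]
    exact fun h' => hKodd (h'.trans (orderOf_dvd_natCard _))
  have hfpf : ∀ a ∈ K, a ≠ 1 → E ⊓ Subgroup.centralizer ({a} : Set G) = ⊥ := fun a ha ha1 =>
    (Subgroup.eq_bot_iff_forall _).2 fun v hv => hG.fpf hE hv.1 (hKodd' a ha) ha1
      (Subgroup.mem_centralizer_singleton_iff.1 hv.2)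
  have hKE : K ≤ Subgroup.normalizer (E : Set G) := by
    rw [Subgroup.normalizer_eq_top]; exact le_top
  haveI : IsZGroup K := ⟨fun r hr P => by
    haveI : Fact r.Prime := ⟨hr⟩
    set R := (P : Subgroup K).map K.subtype
    have hRK : R ≤ K := Subgroup.map_subtype_le _
    rcases Cores.isCyclic_or_quaternion_of_fpf (P.2.map K.subtype) hE1 (hRK.trans hKE)
      (fun a ha ha1 => hfpf a (hRK ha) ha1) with hc | ⟨hr2, m, hm, ⟨φ⟩⟩
    · exact ((P : Subgroup K).equivMapOfInjective K.subtype K.subtype_injective).isCyclic.2 hc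
    · exfalso
      subst hr2
      have h1 : Nat.card R = 4 * 2 ^ m := by
        rw [Nat.card_congr φ.toEquiv, Nat.card_eq_fintype_card, QuaternionGroup.card]
      refine hKodd ((show 2 ∣ Nat.card R from ?_).trans (Subgroup.card_dvd_of_le hRK))
      rw [h1]; exact dvd_mul_of_dvd_left (by norm_num) _⟩
  haveI : Group.IsSolvable K := inferInstance
  have hmap : (K.subtype).range ⊔ (QuotientGroup.mk' E).ker = ⊤ := by
    rw [Subgroup.range_subtype, QuotientGroup.ker_mk', sup_comm]; exact hK.sup_eq_top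
  refine Group.isSolvable_of_surjective (f := (QuotientGroup.mk' E).comp K.subtype) fun x => ?_
  obtain ⟨g, rfl⟩ := QuotientGroup.mk'_surjective E x
  obtain ⟨⟨u, k'⟩, hg⟩ := hK.2 g
  refine ⟨k', ?_⟩
  rw [← hg]
  show QuotientGroup.mk' E (k' : G) = QuotientGroup.mk' E ((u : G) * (k' : G))
  rw [map_mul, show QuotientGroup.mk' E (u : G) = 1 from (QuotientGroup.eq_one_iff _).2 u.2, one_mul]

/-- The soluble radical is the 2-core. -/
theorem le_pCore_of_solvable (hG : IsCIT G) (hns : ¬ Group.IsSolvable G) (h2 : 2 ∣ Nat.card G)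
    (R : Subgroup G) [R.Normal] [Group.IsSolvable R] : R ≤ pCore 2 G := by
  classical
  set E := pCore 2 G
  haveI : (E).Normal := inferInstance
  have hE : IsPGroup 2 E := Cores.isPGroup_pCore 2 G
  haveI : Group.IsNilpotent E := hE.isNilpotent
  have hns' : ¬ Group.IsSolvable (G ⧸ E) := fun h => hns (Group.isSolvable_of_ker_le_range E.subtype
    (QuotientGroup.mk' E) (by rw [QuotientGroup.ker_mk', Subgroup.range_subtype]))
  have h2' : 2 ∣ Nat.card (G ⧸ E) := two_dvd_card_quotient hG hns h2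
  by_contra hle
  set R' := R.map (QuotientGroup.mk' E)
  haveI : R'.Normal := Subgroup.Normal.map inferInstance _ (QuotientGroup.mk'_surjective E)
  haveI : Group.IsSolvable R' :=
    Group.isSolvable_of_surjective (MonoidHom.subgroupMap_surjective (QuotientGroup.mk' E) R)
  refine exists_two_normal (hG.quotient hE) hns' h2' R' ?_ (Cores.pCore_quotient_pCore 2 G)
  rw [Ne, Subgroup.map_eq_bot_iff, QuotientGroup.ker_mk']
  exact hle

theorem two_dvd_card_normal (hG : IsCIT G) (hns : ¬ Group.IsSolvable G) (h2 : 2 ∣ Nat.card G)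
    (W : Subgroup G) [W.Normal] (hW : W ≠ ⊥) : 2 ∣ Nat.card W := by
  by_contra h
  exact hW (odd_normal_eq_bot hG hns h2 W (Nat.not_even_iff_odd.1 fun he => h he.two_dvd))

/-- With trivial 2-core there is a simple normal subgroup with trivial centraliser. -/
theorem exists_simple_normal (hG : IsCIT G) (hns : ¬ Group.IsSolvable G) (h2 : 2 ∣ Nat.card G)
    (hO : pCore 2 G = ⊥) : ∃ T : Subgroup G, T.Normal ∧ IsSimpleGroup T ∧
      (∃ a b : T, a * b ≠ b * a) ∧ 2 ∣ Nat.card T ∧ Subgroup.centralizer (T : Set G) = ⊥ := by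
  classical
  haveI : Fact (Nat.Prime 2) := ⟨Nat.prime_two⟩
  have hnt : (⊤ : Subgroup G) ≠ ⊥ := by
    intro h
    have : Nat.card G = 1 := by rw [← Subgroup.card_top (G := G), h, Subgroup.card_bot]
    omega
  obtain ⟨T, ⟨hTn, hT1⟩, hTmin⟩ := Set.exists_min_image {T : Subgroup G | T.Normal ∧ T ≠ ⊥}
    (fun T => Nat.card T) (Set.toFinite _) ⟨⊤, inferInstance, hnt⟩
  haveI := hTn
  have hT2 := two_dvd_card_normal hG hns h2 T hT1
  have hmin : ∀ S : Subgroup G, S.Normal → S ≠ ⊥ → S ≤ T → S = T := fun S h1 h3 h4 =>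
    Subgroup.eq_of_le_of_card_ge h4 (hTmin S ⟨h1, h3⟩)
  have hnonsolv : ¬ Group.IsSolvable T := fun hs => hT1 (le_bot_iff.1 (hO ▸ le_pCore_of_solvable hG hns h2 T))
  have hnc : ∃ a b : T, a * b ≠ b * a := by
    by_contra! h
    exact hnonsolv (Group.isSolvable_of_comm h)
  -- a subgroup centralised by an involution is a 2-group
  have htwo : ∀ A B : Subgroup G, 2 ∣ Nat.card B → (∀ a ∈ A, ∀ b ∈ B, Commute b a) → IsPGroup 2 A := by
    intro A B hB hAB
    obtain ⟨b, hb⟩ := exists_prime_orderOf_dvd_card' 2 hB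
    refine (hG (b : G) (by rw [Subgroup.orderOf_coe, hb])).to_le fun a ha => ?_
    exact Subgroup.mem_centralizer_singleton_iff.2 (hAB a ha b b.2).eq.symm
  have hCT : Subgroup.centralizer (T : Set G) = ⊥ := by
    set C := Subgroup.centralizer (T : Set G)
    haveI : C.Normal := inferInstance
    by_contra hC
    have hp := htwo T C (two_dvd_card_normal hG hns h2 C hC)
      (fun a ha b hb => (Subgroup.mem_centralizer_iff.1 hb a ha).symm)
    haveI := hp.isNilpotent
    exact hnonsolv inferInstance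
  refine ⟨T, hTn, ?_, hnc, hT2, hCT⟩
  haveI : Nontrivial T := (Subgroup.nontrivial_iff_ne_bot T).2 hT1
  constructor
  intro M hM
  by_contra hc
  push Not at hc
  -- a minimal normal subgroup of `T`
  obtain ⟨L, ⟨hLn, hL1, hLM⟩, hLmin⟩ := Set.exists_min_image
    {L : Subgroup T | L.Normal ∧ L ≠ ⊥ ∧ L ≤ M} (fun L => Nat.card L) (Set.toFinite _)
    ⟨M, hM, hc.1, le_rfl⟩
  set L' := L.map T.subtype with hL'
  have hL'T : L' ≤ T := Subgroup.map_subtype_le L
  have hL'1 : L' ≠ ⊥ := by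
    rw [hL', Ne, Subgroup.map_eq_bot_iff_of_injective _ T.subtype_injective]; exact hL1
  have hL'norm : ∀ x ∈ T, ∀ l ∈ L', x * l * x⁻¹ ∈ L' := by
    rintro x hx _ ⟨l, hl, rfl⟩
    exact ⟨_, hLn.conj_mem l hl ⟨x, hx⟩, rfl⟩
  have hL'ev : ∀ g : G, 2 ∣ Nat.card (L'.map (MulAut.conj g).toMonoidHom) := by
    intro g
    rw [Subgroup.card_map_of_injective (MulAut.conj g).injective]
    by_contra h
    have hodd : Odd (Nat.card L') := Nat.not_even_iff_odd.1 fun he => h he.two_dvd
    have hTO : oddCore T = ⊥ := by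
      haveI : ((oddCore T).map T.subtype).Normal := inferInstance
      have h' := odd_normal_eq_bot hG hns h2 ((oddCore T).map T.subtype) (by
        rw [Subgroup.card_map_of_injective T.subtype_injective]; exact Cores.odd_card_oddCore)
      rwa [Subgroup.map_eq_bot_iff_of_injective _ T.subtype_injective] at h'
    haveI := hLn
    refine hL1 (le_bot_iff.1 (hTO ▸ Cores.le_oddCore ?_))
    rwa [← Subgroup.card_map_of_injective T.subtype_injective]
  have hconj : ∀ g : G, L'.map (MulAut.conj g).toMonoidHom ≤ L' := by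
    intro g
    by_contra hg
    set K := L'.map (MulAut.conj g).toMonoidHom with hK
    have hKT : K ≤ T := by
      rintro _ ⟨l, hl, rfl⟩
      exact hTn.conj_mem l (hL'T hl) g
    have hKnorm : ∀ x ∈ T, ∀ k ∈ K, x * k * x⁻¹ ∈ K := by
      rintro x hx _ ⟨l, hl, rfl⟩
      refine ⟨(g⁻¹ * x * g) * l * (g⁻¹ * x * g)⁻¹,
        hL'norm _ (by simpa using hTn.conj_mem x hx g⁻¹) l hl, ?_⟩
      show g * (g⁻¹ * x * g * l * (g⁻¹ * x * g)⁻¹) * g⁻¹ = x * (g * l * g⁻¹) * x⁻¹
      group
    -- the intersection is trivial, so the two subgroups commute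
    have hinf : ∀ z, z ∈ L' → z ∈ K → z = 1 := by
      intro z hz hzK
      set I := (L' ⊓ K).subgroupOf T
      have hIn : I.Normal := ⟨fun v hv x =>
        Subgroup.mem_subgroupOf.2 ⟨hL'norm x x.2 v (Subgroup.mem_subgroupOf.1 hv).1,
          hKnorm x x.2 v (Subgroup.mem_subgroupOf.1 hv).2⟩⟩
      have hIL : I ≤ L := fun v hv => by
        obtain ⟨l, hl, hlv⟩ := (Subgroup.mem_subgroupOf.1 hv).1
        exact (Subtype.ext hlv : l = v) ▸ hl
      by_contra hz1
      have hI1 : I ≠ ⊥ := fun h => hz1 (congrArg Subtype.val ((Subgroup.eq_bot_iff_forall _).1 h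
        ⟨z, hL'T hz⟩ (Subgroup.mem_subgroupOf.2 ⟨hz, hzK⟩)))
      have hIe : I = L := Subgroup.eq_of_le_of_card_ge hIL
        (hLmin I ⟨hIn, hI1, hIL.trans hLM⟩)
      have hle : L' ≤ K := by
        rintro _ ⟨l, hl, rfl⟩
        exact (Subgroup.mem_subgroupOf.1 (hIe.symm ▸ hl : l ∈ I)).2
      have := Subgroup.eq_of_le_of_card_ge hle (by
        rw [hK, Subgroup.card_map_of_injective (MulAut.conj g).injective])
      exact hg (hK ▸ this.ge)
    have hp := htwo L' K (hL'ev g) (fun a ha b hb => by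
      have h1 : b * a * b⁻¹ * a⁻¹ ∈ L' := mul_mem (hL'norm b (hKT hb) a ha) (inv_mem ha)
      have h3 : b * a * b⁻¹ * a⁻¹ ∈ K := by
        rw [show b * a * b⁻¹ * a⁻¹ = b * (a * b⁻¹ * a⁻¹) by group]
        exact mul_mem hb (hKnorm a (hL'T ha) _ (inv_mem hb))
      have := hinf _ h1 h3
      show b * a = a * b
      rwa [mul_inv_eq_one, mul_inv_eq_iff_eq_mul] at this)
    haveI := hLn
    have hLp : L ≤ pCore 2 T := Cores.le_pCore (fun v => by
      obtain ⟨k, hk⟩ := hp ⟨(v : T), ⟨v, v.2, rfl⟩⟩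
      refine ⟨k, Subtype.ext (Subtype.ext ?_)⟩
      simpa using congrArg Subtype.val hk)
    have hTp : pCore 2 T = ⊥ := by
      haveI : ((pCore 2 T).map T.subtype).Normal := inferInstance
      have h' : (pCore 2 T).map T.subtype ≤ pCore 2 G :=
        Cores.le_pCore ((Cores.isPGroup_pCore 2 T).map _)
      rw [hO, le_bot_iff, Subgroup.map_eq_bot_iff_of_injective _ T.subtype_injective] at h'
      exact h'
    exact hL1 (le_bot_iff.1 (hTp ▸ hLp))
  have hL'n : L'.Normal := ⟨fun l hl g => hconj g ⟨l, hl, rfl⟩⟩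
  have hLT := hmin L' hL'n hL'1 hL'T
  refine hc.2 (top_le_iff.1 fun v _ => hLM ?_)
  obtain ⟨l, hl, hlv⟩ : (v : G) ∈ L' := by rw [hLT]; exact v.2
  exact (Subtype.ext hlv : l = v) ▸ hl

end CfsgLib.Spectrum.CITStructure
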