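import Cfsg.Agent.Lib.Spectrum.CITStructure
import Cfsg.Agent.Lib.Spectrum.PSLTwoRecognition
import Cfsg.Agent.Lib.Zsigmondy.Basic
import Cfsg.Agent.Lib.Golay.M21
import Cfsg.Agent.S1230
import Cfsg.Agent.S2475

/-!
A group with the prime graph of `PSL₂(2^m)` modulo its 2-core: the simple socle is `PSL₂(2^m)` and
nothing lies above it.
-/

set_option autoImplicit false

open Cfsg
open scoped Pointwise

namespace CfsgLib.Spectrum.PSLEvenGraph

open CfsgLib.CIT CfsgLib.Zsigmondy

universe u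

variable {X : Type u} [Group X] [Finite X]

/-- An element of prime order not dividing the order of a normal subgroup normalises one of its
Sylow subgroups. -/
theorem exists_normalized_sylow (T : Subgroup X) [T.Normal] {r s : ℕ} [Fact r.Prime] [Fact s.Prime]
    (hrT : ¬ r ∣ Nat.card T) {x : X} (hx : orderOf x = r) :
    ∃ S : Sylow s T, ∀ v ∈ (S : Subgroup T).map T.subtype, x * v * x⁻¹ ∈ (S : Subgroup T).map T.subtype := by
  classical
  let φ : Subgroup.zpowers x →* MulAut T := (MulAut.conjNormal (H := T)).comp (Subgroup.zpowers x).subtype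
  letI : MulAction (Subgroup.zpowers x) (Sylow s T) := MulAction.compHom (Sylow s T) φ
  have hp : IsPGroup r (Subgroup.zpowers x) :=
    IsPGroup.of_card (n := 1) (by rw [pow_one, Nat.card_zpowers, hx])
  obtain ⟨P₀⟩ : Nonempty (Sylow s T) := inferInstance
  have hnd : ¬ r ∣ Nat.card (Sylow s T) := fun h => hrT (by
    rw [Sylow.card_eq_index_normalizer P₀] at h
    exact h.trans (Subgroup.index_dvd_card _))
  obtain ⟨S, hS⟩ := hp.nonempty_fixed_point_of_prime_not_dvd_card (Sylow s T) hnd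
  refine ⟨S, ?_⟩
  rintro _ ⟨v, hv, rfl⟩
  have h1 : φ ⟨x, Subgroup.mem_zpowers x⟩ • S = S := hS ⟨x, Subgroup.mem_zpowers x⟩
  refine ⟨φ ⟨x, Subgroup.mem_zpowers x⟩ • v, ?_, ?_⟩
  · have h2 : φ ⟨x, Subgroup.mem_zpowers x⟩ • v ∈
        φ ⟨x, Subgroup.mem_zpowers x⟩ • (S : Subgroup T) :=
      Subgroup.smul_mem_pointwise_smul v _ _ hv
    rwa [show φ ⟨x, Subgroup.mem_zpowers x⟩ • (S : Subgroup T) = (S : Subgroup T) from
      congrArg Sylow.toSubgroup h1] at h2
  · rfl

/-- An element of prime order without fixed points on a normalised subgroup. -/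
theorem dvd_card_sub_one {x : X} {r : ℕ} [Fact r.Prime] (hx : orderOf x = r) (V : Subgroup X)
    (hn : ∀ v ∈ V, x * v * x⁻¹ ∈ V) (hfree : ∀ v ∈ V, Commute x v → v = 1) :
    r ∣ Nat.card V - 1 := by
  classical
  let f : Subgroup.zpowers x → V → V := fun a v => ⟨(a : X) * v * (a : X)⁻¹, by
    obtain ⟨n, -, hn'⟩ := (isOfFinOrder_of_finite x).mem_zpowers_iff_mem_range_orderOf.1 a.2 |>
      Finset.mem_image.1
    rw [← hn']
    clear hn'
    induction n with
    | zero => simpa using v.2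
    | succ n ih =>
      have := hn _ ih
      rw [show x * (x ^ n * (v : X) * (x ^ n)⁻¹) * x⁻¹ = x ^ (n + 1) * v * (x ^ (n + 1))⁻¹ by
        rw [pow_succ']; group] at this
      exact this⟩
  letI : MulAction (Subgroup.zpowers x) V :=
    { smul := f
      one_smul := fun v => Subtype.ext (by show ((1 : Subgroup.zpowers x) : X) * v * _ = v; simp)
      mul_smul := fun a b v => Subtype.ext (by
        show ((a * b : Subgroup.zpowers x) : X) * v * ((a * b : Subgroup.zpowers x) : X)⁻¹ =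
          a * (b * v * (b : X)⁻¹) * (a : X)⁻¹
        simp [mul_assoc]) }
  have hp : IsPGroup r (Subgroup.zpowers x) :=
    IsPGroup.of_card (n := 1) (by rw [pow_one, Nat.card_zpowers, hx])
  have hfix : MulAction.fixedPoints (Subgroup.zpowers x) V = {1} := by
    ext v
    constructor
    · intro hv
      have h1 : x * (v : X) * x⁻¹ = v := congrArg Subtype.val (hv ⟨x, Subgroup.mem_zpowers x⟩)
      exact Subtype.ext (hfree v v.2 (mul_inv_eq_iff_eq_mul.1 h1))
    · rintro rfl a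
      exact Subtype.ext (by show (a : X) * 1 * (a : X)⁻¹ = 1; simp)
  have h := hp.card_modEq_card_fixedPoints V
  rw [hfix, Nat.card_coe_set_eq, Set.ncard_singleton] at h
  exact (Nat.modEq_iff_dvd' Nat.card_pos).1 h.symm

/-- Primes of `X` are those of `2 (2^(2m) - 1)`, and the two halves are not joined. -/
structure Ctx (X : Type u) [Group X] (m : ℕ) : Prop where
  hm : 4 ≤ m
  cit : IsCIT X
  primes : ∀ r : ℕ, r.Prime → (r ∣ Nat.card X ↔ r = 2 ∨ r ∣ 2 ^ (2 * m) - 1)
  noedge : ∀ r s : ℕ, r.Prime → s.Prime → r ∣ 2 ^ m - 1 → s ∣ 2 ^ m + 1 → ¬ ∃ x : X, orderOf x = r * s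

namespace Ctx

variable {m : ℕ} (C : Ctx X m) {T : Subgroup X} [T.Normal]
include C

theorem exists_prim : ∃ l, IsPpd 2 (2 * m) l ∧ l ∣ Nat.card X ∧ 2 * m < l ∧ l ≠ 2 := by
  have hm := C.hm
  obtain ⟨l, hl⟩ := exists_isPpd (a := 2) (n := 2 * m) (by norm_num) (by omega)
    (by omega) (by omega)
  have hlt := hl.lt (by norm_num) (by omega)
  exact ⟨l, hl, (C.primes l hl.1).2 (Or.inr hl.2.1), hlt, by omega⟩

theorem fpf_two {x : X} {r : ℕ} [Fact r.Prime]
    (hr2 : r ≠ 2) (hxo : orderOf x = r) (V : Subgroup X) (hV : IsPGroup 2 V)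
    (hn : ∀ v ∈ V, x * v * x⁻¹ ∈ V) : r ∣ Nat.card V - 1 := by
  have hr : r.Prime := Fact.out
  refine dvd_card_sub_one hxo V hn fun v hv hc => C.cit.fpf hV hv ?_ ?_ hc.symm
  · rw [hxo]; exact hr.odd_of_ne_two hr2
  · intro h; rw [h, orderOf_one] at hxo; exact hr.one_lt.ne hxo

/-- If a primitive prime misses `T`, its exponent divides that of the 2-part of `|T|`. -/
theorem exponent_dvd {e l s : ℕ} (he : 0 < e) (hl : IsPpd 2 e l) (hl2 : l ≠ 2)
    (hlX : l ∣ Nat.card X) (hlT : ¬ l ∣ Nat.card T) (hs : (Nat.card T).factorization 2 = s) :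
    e ∣ s := by
  classical
  haveI : Fact l.Prime := ⟨hl.1⟩
  haveI : Fact (Nat.Prime 2) := ⟨Nat.prime_two⟩
  obtain ⟨x, hx⟩ := exists_prime_orderOf_dvd_card' (G := X) l hlX
  obtain ⟨S, hS⟩ := exists_normalized_sylow (s := 2) T hlT hx
  have h := C.fpf_two hl2 hx _ (S.2.map T.subtype) hS
  rw [Subgroup.card_map_of_injective T.subtype_injective, Sylow.card_eq_multiplicity, hs] at h
  exact (hl.dvd_pow_sub_one_iff' (by norm_num) he s).1 h

theorem dvd_sub_one_of_dvd {r : ℕ} (hr : r.Prime) (hr2 : r ≠ 2) (h : r ∣ Nat.card T) :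
    r ∣ 2 ^ (2 * m) - 1 :=
  ((C.primes r hr).1 (h.trans (Subgroup.card_subgroup_dvd_card T))).resolve_left hr2

end Ctx

end CfsgLib.Spectrum.PSLEvenGraph
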