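import Cfsg.Agent.Lib.Spectrum.CITSocleTop
import Cfsg.Agent.Lib.Spectrum.SuzukiSylowData
import Cfsg.Agent.Lib.Spectrum.PSLTwoEvenGraphBasic
import Cfsg.Agent.Lib.Suzuki.LieBridge
import Cfsg.Agent.Lib.Golay.M21
import Cfsg.Agent.S2476
import Cfsg.Agent.S1475
import Cfsg.Agent.S0205

/-!
Groups in which all element orders are prime powers have at most four prime divisors, given the list
of the simple ones.
-/

set_option autoImplicit false

open Cfsg

namespace CfsgLib.Spectrum.CPFour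

open CfsgLib.CIT CfsgLib.Spectrum.CITStructure CfsgLib.Spectrum.PSLEvenGraph

universe u

/-- All element orders are prime powers. -/
def CP (G : Type*) [Group G] : Prop :=
  ∀ (g : G) (a b : ℕ), a.Prime → b.Prime → a ∣ orderOf g → b ∣ orderOf g → a = b

variable {X : Type u} [Group X]

theorem CP.of_injective {Y : Type*} [Group Y] (hX : CP X) (f : Y →* X) (hf : Function.Injective f) : CP Y :=
  fun g a b ha hb hag hbg => hX (f g) a b ha hb (by rwa [orderOf_injective f hf])
    (by rwa [orderOf_injective f hf])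

theorem CP.quotient (hX : CP X) (N : Subgroup X) [N.Normal] : CP (X ⧸ N) := by
  intro x a b ha hb hax hbx
  obtain ⟨g, rfl⟩ := QuotientGroup.mk'_surjective N x
  exact hX g a b ha hb (hax.trans (orderOf_map_dvd _ g)) (hbx.trans (orderOf_map_dvd _ g))

theorem CP.not_commute [Finite X] (hX : CP X) {x y : X} {r s : ℕ} (hr : r.Prime) (hs : s.Prime) (hrs : r ≠ s)
    (hx : r ∣ orderOf x) (hy : s ∣ orderOf y) : ¬ Commute x y := by
  intro hc
  have hc' : Commute (x ^ (orderOf x / r)) (y ^ (orderOf y / s)) := hc.pow_pow _ _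
  have h1 := orderOf_pow_orderOf_div (orderOf_pos x).ne' hx
  have h2 := orderOf_pow_orderOf_div (orderOf_pos y).ne' hy
  have h := hc'.orderOf_mul_eq_mul_orderOf_of_coprime
    (by rw [h1, h2]; exact (Nat.coprime_primes hr hs).2 hrs)
  rw [h1, h2] at h
  exact hrs (hX _ r s hr hs (h ▸ dvd_mul_right r s) (h ▸ dvd_mul_left s r))

theorem CP.isPGroup_of_commute [Finite X] (hX : CP X) {z : X} {p : ℕ} (hp : p.Prime) (hz : p ∣ orderOf z)
    {H : Subgroup X} (h : ∀ c ∈ H, Commute c z) : IsPGroup p H := by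
  haveI : Fact p.Prime := ⟨hp⟩
  rw [IsPGroup.iff_orderOf]
  intro c
  refine ⟨_, Nat.eq_prime_pow_of_unique_prime_dvd (orderOf_pos c).ne' fun {d} hd hdd => ?_⟩
  by_contra hne
  exact hX.not_commute hd hp hne (by rwa [Subgroup.orderOf_coe]) hz (h c c.2)

theorem CP.cit [Finite X] (hX : CP X) : IsCIT X := fun _t ht =>
  hX.isPGroup_of_commute Nat.prime_two (by rw [ht]) fun _c hc =>
    Subgroup.mem_centralizer_singleton_iff.1 hc

theorem CP.of_isPrimePow {G : Type*} [Group G] (h : ∀ g : G, g ≠ 1 → IsPrimePow (orderOf g)) : CP G := by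
  intro g a b ha hb hag hbg
  have hg : g ≠ 1 := by
    rintro rfl
    rw [orderOf_one] at hag
    exact ha.one_lt.ne' (Nat.dvd_one.1 hag)
  obtain ⟨q, k, hq, -, hqk⟩ := (isPrimePow_nat_iff _).1 (h g hg)
  rw [← hqk] at hag hbg
  exact ((Nat.prime_dvd_prime_iff_eq ha hq).1 (ha.dvd_of_dvd_pow hag)).trans
    ((Nat.prime_dvd_prime_iff_eq hb hq).1 (hb.dvd_of_dvd_pow hbg)).symm

theorem mem_of_dvd_prod_pow {n N : ℕ} {L : Finset ℕ} (hL : ∀ l ∈ L, Nat.Prime l)
    (hn : n ∣ (∏ l ∈ L, l) ^ N) {r : ℕ} (hr : r.Prime) (h : r ∣ n) : r ∈ L := by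
  obtain ⟨l, hl, hrl⟩ := (Prime.dvd_finsetProd_iff hr.prime _).1 (hr.dvd_of_dvd_pow (h.trans hn))
  exact (Nat.prime_dvd_prime_iff_eq hr (hL l hl)).1 hrl ▸ hl

/-- The primes of the group are those of a normal subgroup whose Sylow 3-subgroup has order 3 or 9. -/
theorem dvd_of_three [Finite X] (hX : CP X) (T : Subgroup X) [T.Normal] (h2 : 2 ∣ Nat.card T)
    (h3 : (Nat.card T).factorization 3 = 1 ∨ (Nat.card T).factorization 3 = 2)
    {r : ℕ} (hr : r.Prime) (hrX : r ∣ Nat.card X) : r ∣ Nat.card T := by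
  classical
  by_contra hrT
  haveI : Fact r.Prime := ⟨hr⟩
  haveI : Fact (Nat.Prime 3) := ⟨Nat.prime_three⟩
  obtain ⟨x, hx⟩ := exists_prime_orderOf_dvd_card' (G := X) r hrX
  obtain ⟨S, hS⟩ := exists_normalized_sylow (s := 3) T hrT hx
  have h := dvd_card_sub_one hx ((S : Subgroup T).map T.subtype) hS fun v hv hc => by
    by_contra hv1
    obtain ⟨w, hw, rfl⟩ := hv
    obtain ⟨q, hq, hqd⟩ := Nat.exists_prime_and_dvd
      (show orderOf (w : X) ≠ 1 from fun e => hv1 (orderOf_eq_one_iff.1 e))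
    refine hX.not_commute hr hq ?_ (by rw [hx]) hqd hc
    rintro rfl
    exact hrT (hqd.trans (by rw [Subgroup.orderOf_coe]; exact orderOf_dvd_natCard w))
  rw [Subgroup.card_map_of_injective T.subtype_injective, Sylow.card_eq_multiplicity] at h
  apply hrT
  have h' : r ∣ 2 := by
    rcases h3 with e | e <;> rw [e] at h
    · simpa using h
    · exact hr.dvd_of_dvd_pow (m := 2) (n := 3) (by simpa using h)
  rwa [(Nat.prime_dvd_prime_iff_eq hr Nat.prime_two).1 h']

/-- Sylow 7-normalisers. -/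
theorem normalizer_seven [Finite X] (hX : CP X) (P : Subgroup X) (hP : Nat.card P = 7) :
    ∃ c i : ℕ, Nat.card (Subgroup.normalizer (P : Set X)) = c * i ∧
      c = Nat.card (Subgroup.centralizer (P : Set X)) ∧ (i = 1 ∨ i = 2 ∨ i = 3) ∧
      IsPGroup 7 (Subgroup.centralizer (P : Set X)) := by
  haveI : Fact (Nat.Prime 7) := ⟨by norm_num⟩
  obtain ⟨⟨a, ha⟩, ha1⟩ : ∃ a : P, a ≠ 1 := by
    haveI : Nontrivial P := Finite.one_lt_card_iff_nontrivial.1 (by omega)
    exact exists_ne 1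
  have hao : orderOf a = 7 := by
    rw [← Subgroup.orderOf_mk a ha]
    exact ((Nat.dvd_prime (by norm_num)).1 (hP ▸ orderOf_dvd_natCard (⟨a, ha⟩ : P))).resolve_left
      fun h => ha1 (orderOf_eq_one_iff.1 h)
  set f := P.normalizerMonoidHom with hf
  have hker : Nat.card f.ker = Nat.card (Subgroup.centralizer (P : Set X)) := by
    rw [hf, Subgroup.normalizerMonoidHom_ker]
    exact Nat.card_congr (Subgroup.subgroupOfEquivOfLe (Subgroup.centralizer_le_normalizer _)).toEquiv
  refine ⟨_, Nat.card f.range, ?_, rfl, ?_, hX.isPGroup_of_commute (by norm_num) (by rw [hao])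
    fun c hc => (Subgroup.mem_centralizer_iff.1 hc a ha).symm⟩
  · rw [← hker, ← Subgroup.index_ker, Subgroup.card_mul_index]
  · haveI : IsCyclic P := isCyclic_of_prime_card hP
    let e := IsCyclic.mulAutMulEquiv P
    haveI : NeZero (Nat.card P) := ⟨by omega⟩
    have h6 : Nat.card (MulAut P) = 6 := by
      rw [Nat.card_congr e.toEquiv, Nat.card_eq_fintype_card, ZMod.card_units_eq_totient, hP,
        Nat.totient_prime (by norm_num)]
    have hd : Nat.card f.range ∣ 6 := h6 ▸ Subgroup.card_subgroup_dvd_card _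
    have hne : Nat.card f.range ≠ 6 := by
      intro h
      haveI : IsCyclic (ZMod (Nat.card P))ˣ := by rw [hP]; infer_instance
      haveI : IsCyclic (MulAut P) := e.isCyclic.2 inferInstance
      obtain ⟨g, hg⟩ := IsCyclic.exists_generator (α := MulAut P)
      have hg6 := orderOf_eq_card_of_forall_mem_zpowers hg
      have htop : f.range = ⊤ := Subgroup.eq_top_of_card_eq _ (by rw [h, h6])
      obtain ⟨w, hw⟩ : g ∈ f.range := htop ▸ Subgroup.mem_top g
      have hd6 : 6 ∣ orderOf (w : X) := by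
        rw [← h6, ← hg6, ← hw, Subgroup.orderOf_coe]
        exact orderOf_map_dvd f w
      exact absurd (hX (w : X) 2 3 Nat.prime_two Nat.prime_three
        ((by norm_num : 2 ∣ 6).trans hd6) ((by norm_num : 3 ∣ 6).trans hd6)) (by norm_num)
    have := Nat.le_of_dvd (by norm_num) hd
    interval_cases Nat.card f.range <;> simp_all

/-- Nothing lies above `PSL₃(4)`. -/
theorem eq_top_of_card [Finite X] (hX : CP X) (T : Subgroup X) [T.Normal] (hT : Nat.card T = 20160) :
    T = ⊤ := by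
  classical
  haveI : Fact (Nat.Prime 7) := ⟨by norm_num⟩
  haveI : Fact (Nat.Prime 3) := ⟨Nat.prime_three⟩
  obtain ⟨P⟩ : Nonempty (Sylow 7 T) := inferInstance
  have hP7 : Nat.card (P : Subgroup T) = 7 := by
    rw [Sylow.card_eq_multiplicity, hT]
    have : (20160 : ℕ).factorization 7 = 1 := by
      rw [show (20160 : ℕ) = 7 ^ 1 * 2880 by norm_num,
        Nat.factorization_mul_apply_of_coprime (by norm_num), (by norm_num : Nat.Prime 7).factorization_pow,
        Finsupp.single_eq_same, Nat.factorization_eq_zero_of_not_dvd (by norm_num)]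
    rw [this, pow_one]
  have hXT : CP T := hX.of_injective T.subtype T.subtype_injective
  obtain ⟨c, i, hci, hc, hi, hcp⟩ := normalizer_seven hXT (P : Subgroup T) hP7
  set NT := Subgroup.normalizer ((P : Subgroup T) : Set T) with hNTdef
  haveI : IsMulCommutative (P : Subgroup T) := by
    haveI : IsCyclic (P : Subgroup T) := isCyclic_of_prime_card hP7
    infer_instance
  have hCP : Subgroup.centralizer ((P : Subgroup T) : Set T) = (P : Subgroup T) :=
    P.3 hcp (Subgroup.le_centralizer _)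
  rw [hCP, hP7] at hc
  subst hc
  have hNT : Nat.card NT = 21 := by
    have h1 : Nat.card (Sylow 7 T) ≡ 1 [MOD 7] := card_sylow_modEq_one 7 T
    have h2 : Nat.card (Sylow 7 T) = NT.index := Sylow.card_eq_index_normalizer P
    have h3 := NT.card_mul_index
    rw [hT, hci] at h3
    rw [h2, Nat.ModEq] at h1
    rcases hi with rfl | rfl | rfl <;> omega
  obtain ⟨⟨z, hzN⟩, hz⟩ := exists_prime_orderOf_dvd_card' (G := NT) 3 (by rw [hNT]; norm_num)
  rw [Subgroup.orderOf_mk] at hz
  set P' := (P : Subgroup T).map T.subtype with hP'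
  have hP'7 : Nat.card P' = 7 := by
    rw [hP', Subgroup.card_map_of_injective T.subtype_injective]; exact hP7
  obtain ⟨c', i', hci', hc', hi', hcp'⟩ := normalizer_seven hX P' hP'7
  set N := Subgroup.normalizer (P' : Set X) with hN
  have hmem : ∀ w : T, (w : X) ∈ P' ↔ w ∈ (P : Subgroup T) := fun w =>
    ⟨fun ⟨w', hw', h⟩ => (Subtype.ext h : w' = w) ▸ hw', fun hw => ⟨w, hw, rfl⟩⟩
  have hNTle : NT.map T.subtype ≤ N ⊓ T := by
    rintro _ ⟨w, hw, rfl⟩
    refine ⟨?_, w.2⟩
    refine Subgroup.mem_normalizer_iff.2 ?_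
    intro v
    constructor
    · rintro ⟨v', hv', rfl⟩
      exact ⟨w * v' * w⁻¹, (Subgroup.mem_normalizer_iff.1 hw v').1 hv', rfl⟩
    · intro hv
      have hvT : v ∈ T := by
        have := T.mul_mem (T.mul_mem (T.inv_mem w.2) (Subgroup.map_subtype_le _ hv)) w.2
        simpa [mul_assoc] using this
      let vT : T := ⟨v, hvT⟩
      have hv' : ((w * vT * w⁻¹ : T) : X) ∈ P' := hv
      exact (hmem vT).2 ((Subgroup.mem_normalizer_iff.1 hw vT).2 ((hmem _).1 hv'))
  have hzN' : (z : X) ∈ N := (hNTle ⟨z, hzN, rfl⟩).1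
  set C := Subgroup.centralizer (P' : Set X)
  have hcle : c' ≤ 7 := by
    rw [hc', ← hP'7]
    have hkey : ∀ v ∈ C, v * (z : X) * v⁻¹ * (z : X)⁻¹ ∈ P' := by
      intro v hv
      have hzv : (z : X) * v⁻¹ * (z : X)⁻¹ ∈ C := by
        rw [Subgroup.mem_centralizer_iff]
        intro p hp
        have hp' : (z : X)⁻¹ * p * z ∈ P' := (Subgroup.mem_normalizer_iff''.1 hzN' p).1 hp
        have h1 := Subgroup.mem_centralizer_iff.1 (C.inv_mem hv) _ hp'
        calc p * ((z : X) * v⁻¹ * (z : X)⁻¹) = (z : X) * ((z : X)⁻¹ * p * z * v⁻¹) * (z : X)⁻¹ := by group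
          _ = (z : X) * (v⁻¹ * ((z : X)⁻¹ * p * z)) * (z : X)⁻¹ := by rw [h1]
          _ = (z : X) * v⁻¹ * (z : X)⁻¹ * p := by group
      have hwC : v * (z : X) * v⁻¹ * (z : X)⁻¹ ∈ C := by
        have h0 := C.mul_mem hv hzv
        rwa [← mul_assoc, ← mul_assoc] at h0
      have hwT : v * (z : X) * v⁻¹ * (z : X)⁻¹ ∈ T :=
        T.mul_mem ((inferInstance : T.Normal).conj_mem _ z.2 v) (T.inv_mem z.2)
      refine (hmem ⟨_, hwT⟩).2 (hCP.le ?_)
      rw [Subgroup.mem_centralizer_iff]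
      exact fun p hp => Subtype.ext (Subgroup.mem_centralizer_iff.1 hwC (p : X) ((hmem p).2 hp))
    refine Nat.card_le_card_of_injective (fun v : C => (⟨_, hkey v v.2⟩ : P')) ?_
    rintro ⟨v, hv⟩ ⟨v', hv'⟩ h
    have h' : v * (z : X) * v⁻¹ * (z : X)⁻¹ = v' * (z : X) * v'⁻¹ * (z : X)⁻¹ := congrArg Subtype.val h
    have hcomm : Commute (v'⁻¹ * v) (z : X) := by
      show v'⁻¹ * v * (z : X) = z * (v'⁻¹ * v)
      calc v'⁻¹ * v * (z : X) = v'⁻¹ * (v * (z : X) * v⁻¹ * (z : X)⁻¹) * z * v := by group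
        _ = v'⁻¹ * (v' * (z : X) * v'⁻¹ * (z : X)⁻¹) * z * v := by rw [h']
        _ = z * (v'⁻¹ * v) := by group
    by_contra hne
    obtain ⟨k, hk⟩ := IsPGroup.iff_orderOf.1 hcp' (⟨v', hv'⟩⁻¹ * ⟨v, hv⟩)
    have hne1 : (⟨v', hv'⟩⁻¹ * ⟨v, hv⟩ : C) ≠ 1 := fun e => hne (inv_mul_eq_one.1 e).symm
    have h7 : 7 ∣ orderOf (v'⁻¹ * v) := by
      rw [← Subgroup.orderOf_coe] at hk
      rw [show orderOf (v'⁻¹ * v) = 7 ^ k from hk]
      exact dvd_pow_self 7 fun e => hne1 (by
        rw [e, pow_zero, orderOf_eq_one_iff] at hk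
        exact Subtype.ext hk)
    exact hX.not_commute (by norm_num) Nat.prime_three (by norm_num) h7
      (by rw [Subgroup.orderOf_coe, hz]) hcomm
  have hNle : N ≤ T := by
    have h21 : Nat.card N ≤ 21 := by
      rw [hci']
      exact Nat.mul_le_mul hcle (by omega : i' ≤ 3)
    have h1 := Subgroup.card_le_of_le hNTle
    rw [Subgroup.card_map_of_injective T.subtype_injective, hNT] at h1
    rw [← Subgroup.eq_of_le_of_card_ge (inf_le_left : N ⊓ T ≤ N) (h21.trans h1)]
    exact inf_le_right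
  rw [eq_top_iff, ← Sylow.normalizer_sup_eq_top P]
  exact sup_le hNle le_rfl

/-- Modulo the 2-core nothing changes for `PSL₃(4)`. -/
theorem pCore_eq_bot {G : Type u} [Group G] [Finite G] (hG : CP G) {F : Type} [Field F] [Fintype F]
    (hF : Fintype.card F = 4)
    (e : G ⧸ pCore 2 G ≃* Matrix.ProjectiveSpecialLinearGroup (Fin 3) F) : pCore 2 G = ⊥ := by
  classical
  haveI : Fact (Nat.Prime 2) := ⟨Nat.prime_two⟩
  haveI : Fact (Nat.Prime 3) := ⟨Nat.prime_three⟩
  haveI : CharP F 2 := charP_of_card_eq_prime_pow (f := 2) (by rw [hF]; norm_num)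
  set E := pCore 2 G
  have hEp : IsPGroup 2 E := Cores.isPGroup_pCore 2 G
  obtain ⟨k, hk⟩ := IsPGroup.iff_card.1 hEp
  obtain ⟨A⟩ : Nonempty (Sylow 3 G) := inferInstance
  have hA : Nat.card (A : Subgroup G) = 3 ^ 2 := by
    rw [Sylow.card_eq_multiplicity, Subgroup.card_eq_card_quotient_mul_card_subgroup E,
      Nat.card_congr e.toEquiv, CfsgLib.Golay.natCard_PSL3_four hF, hk]
    congr 1
    rw [show 20160 * 2 ^ k = 3 ^ 2 * (2240 * 2 ^ k) by ring,
      Nat.factorization_mul_apply_of_coprime (Nat.Coprime.pow_left 2 (Nat.Coprime.mul_right (by norm_num)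
        ((by norm_num : Nat.Coprime 3 2).pow_right k))), Nat.prime_three.factorization_pow,
      Finsupp.single_eq_same, Nat.factorization_eq_zero_of_not_dvd]
    intro h
    rcases Nat.prime_three.dvd_mul.1 h with h | h
    · norm_num at h
    · exact absurd (Nat.prime_three.dvd_of_dvd_pow h) (by norm_num)
  have hno9 : ∀ g : G, orderOf g ≠ 9 := by
    intro g hg
    set x := e (QuotientGroup.mk' E g)
    have hx : orderOf x ∣ 9 := by
      rw [e.orderOf_eq, ← hg]; exact orderOf_map_dvd _ g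
    have hx9 : orderOf x = 9 := by
      obtain ⟨j, hj, hj'⟩ := (Nat.dvd_prime_pow Nat.prime_three).1 (show orderOf x ∣ 3 ^ 2 from hx)
      rcases eq_or_ne j 2 with rfl | hne
      · exact hj'
      exfalso
      have h3 : QuotientGroup.mk' E (g ^ 3) = 1 := e.injective (by
        rw [map_pow, map_pow, map_one]
        exact orderOf_dvd_iff_pow_eq_one.1 (hj' ▸ (pow_dvd_pow 3 (by omega)).trans (pow_one 3).dvd))
      rw [QuotientGroup.mk'_apply, QuotientGroup.eq_one_iff] at h3
      obtain ⟨l, hl⟩ := IsPGroup.iff_orderOf.1 hEp ⟨g ^ 3, h3⟩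
      rw [Subgroup.orderOf_mk, orderOf_pow, hg] at hl
      rcases l with _ | l
      · norm_num at hl
      · rw [pow_succ] at hl; norm_num at hl; omega
    have hmem : orderOf x ∈ Set.range (orderOf : Matrix.ProjectiveSpecialLinearGroup (Fin 3) F → ℕ) :=
      ⟨x, rfl⟩
    rw [Cfsg.Agent.S2476.result 2, Set.mem_ofPred_eq, hx9, hF] at hmem
    norm_num at hmem
  have hfpf : ∀ a ∈ (A : Subgroup G), a ≠ 1 → E ⊓ Subgroup.centralizer ({a} : Set G) = ⊥ := by
    refine fun a ha ha1 => (Subgroup.eq_bot_iff_forall _).2 fun v hv => ?_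
    by_contra hv1
    obtain ⟨j, hj⟩ := IsPGroup.iff_orderOf.1 A.2 ⟨a, ha⟩
    rw [Subgroup.orderOf_mk] at hj
    refine hG.not_commute Nat.prime_two Nat.prime_three (by norm_num) (two_dvd_orderOf_of_mem hEp hv.1 hv1)
      ?_ (Subgroup.mem_centralizer_singleton_iff.1 hv.2)
    rw [hj]
    exact dvd_pow_self 3 fun e => ha1 (by rwa [e, pow_zero, orderOf_eq_one_iff] at hj)
  by_contra hE
  haveI : IsMulCommutative (A : Subgroup G) := IsPGroup.isMulCommutative_of_card_eq_prime_sq hA
  have hcyc := Cores.isCyclic_of_fpf (A := (A : Subgroup G)) hE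
    (by rw [Subgroup.normalizer_eq_top]; exact le_top) hfpf
  obtain ⟨g, hg⟩ := hcyc.exists_generator
  exact hno9 g (by rw [Subgroup.orderOf_coe, orderOf_eq_card_of_forall_mem_zpowers hg, hA]; norm_num)

/-- The theorem, given the simple groups. -/
theorem main {G : Type u} [Group G] [Finite G] (h : ∀ g : G, g ≠ 1 → IsPrimePow (orderOf g))
    (classify : ∀ {T : Type u} [Group T] [Finite T] [IsSimpleGroup T], ¬ IsMulCommutative T →
      (∀ g : T, g ≠ 1 → IsPrimePow (orderOf g)) →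
      Nonempty (T ≃* alternatingGroup (Fin 6)) ∨
      (∃ (F : Type) (_ : Field F) (_ : Fintype F), Fintype.card F ∈ ({4, 7, 8, 17} : Finset ℕ) ∧
        Nonempty (T ≃* Matrix.ProjectiveSpecialLinearGroup (Fin 2) F)) ∨
      (∃ (F : Type) (_ : Field F) (_ : Fintype F), Fintype.card F = 4 ∧
        Nonempty (T ≃* Matrix.ProjectiveSpecialLinearGroup (Fin 3) F)) ∨
      (∃ (F : Type) (_ : Field F) (_ : Fintype F),
        (Fintype.card F = 8 ∧ Nonempty (T ≃* ↥(Cfsg.Lie.Sz F 4))) ∨
        (Fintype.card F = 32 ∧ Nonempty (T ≃* ↥(Cfsg.Lie.Sz F 8))))) :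
    (Nat.card G).primeFactors.card ≤ 4 ∧
    ((Nat.card G).primeFactors.card = 4 →
      (∃ (F : Type) (_ : Field F) (_ : Fintype F), Fintype.card F = 4 ∧
        Nonempty (G ≃* Matrix.ProjectiveSpecialLinearGroup (Fin 3) F)) ∨
      (∃ (N : Subgroup G) (_ : N.Normal), IsPGroup 2 ↥N ∧
        ∃ (F : Type) (_ : Field F) (_ : Fintype F),
          (Fintype.card F = 8 ∧ Nonempty (G ⧸ N ≃* ↥(Cfsg.Lie.Sz F 4))) ∨
          (Fintype.card F = 32 ∧ Nonempty (G ⧸ N ≃* ↥(Cfsg.Lie.Sz F 8))))) := by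
  classical
  by_cases hsol : Group.IsSolvable G
  · have := Cfsg.Agent.S1475.result (G := G) fun g =>
      (em (g = 1)).elim Or.inr fun hg => Or.inl (h g hg)
    exact ⟨by omega, fun h' => absurd h' (by omega)⟩
  haveI : Fact (Nat.Prime 2) := ⟨Nat.prime_two⟩
  have hCP : CP G := CP.of_isPrimePow h
  have h2G : 2 ∣ Nat.card G := by
    by_contra h2
    exact hsol (Cfsg.Agent.S0205.result (Nat.not_even_iff_odd.1 fun he => h2 he.two_dvd))
  set E := pCore 2 G
  have hEp : IsPGroup 2 E := Cores.isPGroup_pCore 2 G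
  obtain ⟨k, hk⟩ := IsPGroup.iff_card.1 hEp
  have hdvd : ∀ r : ℕ, r.Prime → r ∣ Nat.card G → r ∣ Nat.card (G ⧸ E) := by
    intro r hr h
    rcases eq_or_ne r 2 with rfl | hr2
    · exact two_dvd_card_quotient hCP.cit hsol h
    · rw [Subgroup.card_eq_card_quotient_mul_card_subgroup E, hk] at h
      exact (hr.dvd_mul.1 h).resolve_right fun h' =>
        hr2 ((Nat.prime_dvd_prime_iff_eq hr Nat.prime_two).1 (hr.dvd_of_dvd_pow h'))
  have hnsX : ¬ Group.IsSolvable (G ⧸ E) := by
    intro hs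
    haveI := hEp.isNilpotent
    exact hsol (Group.isSolvable_of_ker_le_range E.subtype (QuotientGroup.mk' E)
      (by rw [QuotientGroup.ker_mk', Subgroup.range_subtype]))
  have hX : CP (G ⧸ E) := hCP.quotient E
  obtain ⟨T, hTn, hTs, hTab, hT2, -⟩ := exists_simple_normal hX.cit hnsX (hdvd 2 Nat.prime_two h2G)
    (Cores.pCore_quotient_pCore 2 G)
  haveI := hTn
  haveI := hTs
  have hTc : ¬ IsMulCommutative T := by
    intro hc
    obtain ⟨a, b, hab⟩ := hTab
    exact hab (hc.is_comm.comm a b)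
  have hT : ∀ g : T, g ≠ 1 → IsPrimePow (orderOf g) := by
    intro g hg
    have h1 : orderOf g ≠ 1 := fun e => hg (orderOf_eq_one_iff.1 e)
    obtain ⟨p, hp, hpd⟩ := Nat.exists_prime_and_dvd h1
    have heq := Nat.eq_prime_pow_of_unique_prime_dvd (orderOf_pos g).ne' (p := p) fun {d} hd hdd =>
      (hX.of_injective T.subtype T.subtype_injective) g d p hd hp hdd hpd
    rw [heq]
    exact hp.isPrimePow.pow (fun e => h1 (by rw [heq, e, pow_zero]))
  have hsub : ∀ L : Finset ℕ, (∀ r : ℕ, r.Prime → r ∣ Nat.card (G ⧸ E) → r ∈ L) →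
      (Nat.card G).primeFactors.card ≤ L.card := fun L hL => Finset.card_le_card fun r hr => by
    rw [Nat.mem_primeFactors] at hr
    exact hL r hr.1 (hdvd r hr.1 hr.2.1)
  have small : ∀ n : ℕ, Nat.card T = n → (n.factorization 3 = 1 ∨ n.factorization 3 = 2) →
      ∀ (L : Finset ℕ) (M : ℕ), (∀ l ∈ L, Nat.Prime l) → n ∣ (∏ l ∈ L, l) ^ M →
      (Nat.card G).primeFactors.card ≤ L.card := by
    intro n hn h3 L M hL hM
    refine hsub L fun r hr hrX => mem_of_dvd_prod_pow hL hM hr ?_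
    rw [← hn]
    exact dvd_of_three hX T hT2 (hn.symm ▸ h3) hr hrX
  have fact3 : ∀ n a b : ℕ, n = 3 ^ a * b → ¬ 3 ∣ b → n.factorization 3 = a := by
    intro n a b hn hb
    rw [hn, Nat.factorization_mul_apply_of_coprime
        (((Nat.prime_three.coprime_iff_not_dvd).2 hb).pow_left a),
      Nat.prime_three.factorization_pow, Finsupp.single_eq_same,
      Nat.factorization_eq_zero_of_not_dvd hb, add_zero]
  rcases classify hTc hT with ⟨⟨e⟩⟩ | ⟨F, iF, iFF, hF, ⟨e⟩⟩ | ⟨F, iF, iFF, hF, ⟨e⟩⟩ |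
    ⟨F, iF, iFF, ⟨hF, ⟨e⟩⟩ | ⟨hF, ⟨e⟩⟩⟩
  · have hn : Nat.card T = 360 := by
      rw [Nat.card_congr e.toEquiv, nat_card_alternatingGroup, Nat.card_eq_fintype_card,
        Fintype.card_fin]
      norm_num [Nat.factorial]
    have := small 360 hn (Or.inr (fact3 _ 2 40 (by norm_num) (by norm_num))) {2, 3, 5} 10
      (by norm_num) (by norm_num)
    have : (Nat.card G).primeFactors.card ≤ 3 := this.trans (by decide)
    exact ⟨by omega, fun h' => absurd h' (by omega)⟩
  · have h3 : (Nat.card G).primeFactors.card ≤ 3 := by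
      have hc := Nat.card_congr e.toEquiv
      simp only [Finset.mem_insert, Finset.mem_singleton] at hF
      rcases hF with hF | hF | hF | hF
      · rw [CfsgLib.ClassicalLinear.card_PSL_two_of_even hF (by decide)] at hc
        exact (small 60 (by rw [hc]; norm_num) (Or.inl (fact3 _ 1 20 (by norm_num) (by norm_num)))
          {2, 3, 5} 10 (by norm_num) (by norm_num)).trans (by decide)
      · have h' := CfsgLib.ClassicalLinear.card_PSL_two_of_odd hF (by decide)
        rw [← hc] at h'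
        exact (small 168 (by norm_num at h'; omega) (Or.inl (fact3 _ 1 56 (by norm_num) (by norm_num)))
          {2, 3, 7} 10 (by norm_num) (by norm_num)).trans (by decide)
      · rw [CfsgLib.ClassicalLinear.card_PSL_two_of_even hF (by decide)] at hc
        exact (small 504 (by rw [hc]; norm_num) (Or.inr (fact3 _ 2 56 (by norm_num) (by norm_num)))
          {2, 3, 7} 10 (by norm_num) (by norm_num)).trans (by decide)
      · have h' := CfsgLib.ClassicalLinear.card_PSL_two_of_odd hF (by decide)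
        rw [← hc] at h'
        exact (small 2448 (by norm_num at h'; omega) (Or.inr (fact3 _ 2 272 (by norm_num) (by norm_num)))
          {2, 3, 17} 10 (by norm_num) (by norm_num)).trans (by decide)
    exact ⟨by omega, fun h' => absurd h' (by omega)⟩
  · have hn : Nat.card T = 20160 := by
      rw [Nat.card_congr e.toEquiv, CfsgLib.Golay.natCard_PSL3_four hF]
    refine ⟨(small 20160 hn (Or.inr (fact3 _ 2 2240 (by norm_num) (by norm_num))) {2, 3, 5, 7} 10
      (by norm_num) (by norm_num)).trans (by decide), fun _ => Or.inl ⟨F, iF, iFF, hF, ?_⟩⟩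
    have hTop := eq_top_of_card hX T hn
    let eX : G ⧸ E ≃* Matrix.ProjectiveSpecialLinearGroup (Fin 3) F :=
      ((MulEquiv.subgroupCongr hTop).trans Subgroup.topEquiv).symm.trans e
    have hE : E = ⊥ := pCore_eq_bot hCP hF eX
    exact ⟨((QuotientGroup.quotientMulEquivOfEq hE).trans QuotientGroup.quotientBot).symm.trans eX⟩
  all_goals
    first
    | (have hy : CfsgLib.Suzuki.Hyp F 1 := CfsgLib.Suzuki.Hyp.of_fintype le_rfl (by rw [hF]; norm_num)
       let e' : T ≃* Cfsg.Sz F 1 := e.trans hy.lieEquiv.symm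
       obtain ⟨P⟩ : Nonempty (Sylow 2 T) := inferInstance
       obtain ⟨hP, hinv, hcen, hnor⟩ := CfsgLib.Spectrum.SuzukiSylow.sylow_data hy e' P
       have hTop := CITSocleTop.eq_top hX.cit P rfl (by norm_num) hP hinv hcen hnor
       refine ⟨(hsub {2, 5, 7, 13} fun r hr hrX => mem_of_dvd_prod_pow (N := 10) (by norm_num)
         (n := Nat.card T) ?_ hr ?_).trans (by decide), fun _ => Or.inr ⟨E, inferInstance, hEp, F, iF, iFF,
           Or.inl ⟨hF, ⟨((MulEquiv.subgroupCongr hTop).trans Subgroup.topEquiv).symm.trans e⟩⟩⟩⟩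
       · rw [Nat.card_congr e'.toEquiv, hy.card_group]; norm_num
       · rw [hTop, Subgroup.card_top]; exact hrX)
    | (have hy : CfsgLib.Suzuki.Hyp F 2 := CfsgLib.Suzuki.Hyp.of_fintype (by norm_num) (by rw [hF]; norm_num)
       let e' : T ≃* Cfsg.Sz F 2 := e.trans hy.lieEquiv.symm
       obtain ⟨P⟩ : Nonempty (Sylow 2 T) := inferInstance
       obtain ⟨hP, hinv, hcen, hnor⟩ := CfsgLib.Spectrum.SuzukiSylow.sylow_data hy e' P
       have hTop := CITSocleTop.eq_top hX.cit P rfl (by norm_num) hP hinv hcen hnor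
       refine ⟨(hsub {2, 5, 31, 41} fun r hr hrX => mem_of_dvd_prod_pow (N := 10) (by norm_num)
         (n := Nat.card T) ?_ hr ?_).trans (by decide), fun _ => Or.inr ⟨E, inferInstance, hEp, F, iF, iFF,
           Or.inr ⟨hF, ⟨((MulEquiv.subgroupCongr hTop).trans Subgroup.topEquiv).symm.trans e⟩⟩⟩⟩
       · rw [Nat.card_congr e'.toEquiv, hy.card_group]; norm_num
       · rw [hTop, Subgroup.card_top]; exact hrX)

end CfsgLib.Spectrum.CPFour
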