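import Mathlib

/-!
Finite data for the commuting graph of SL(3,3): transvections, involutions, and the checks on them.
-/

namespace CfsgLib.Spectrum.L33

/-- A 3×3 matrix with natural number entries, by rows. -/
structure M3 where
  a : ℕ
  b : ℕ
  c : ℕ
  d : ℕ
  e : ℕ
  f : ℕ
  g : ℕ
  h : ℕ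
  i : ℕ

/-- Equality test. -/
def eqb (A B : M3) : Bool :=
  Nat.beq A.a B.a && Nat.beq A.b B.b && Nat.beq A.c B.c && Nat.beq A.d B.d && Nat.beq A.e B.e &&
    Nat.beq A.f B.f && Nat.beq A.g B.g && Nat.beq A.h B.h && Nat.beq A.i B.i

theorem eq_of_eqb {A B : M3} (h : eqb A B = true) : A = B := by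
  cases A
  cases B
  simp only [eqb, Bool.and_eq_true, Nat.beq_eq] at h
  simp [h]

/-- Product modulo 3. -/
def mul (A B : M3) : M3 :=
  ⟨(A.a * B.a + A.b * B.d + A.c * B.g) % 3, (A.a * B.b + A.b * B.e + A.c * B.h) % 3, (A.a * B.c + A.b * B.f + A.c * B.i) % 3,
   (A.d * B.a + A.e * B.d + A.f * B.g) % 3, (A.d * B.b + A.e * B.e + A.f * B.h) % 3, (A.d * B.c + A.e * B.f + A.f * B.i) % 3,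
   (A.g * B.a + A.h * B.d + A.i * B.g) % 3, (A.g * B.b + A.h * B.e + A.i * B.h) % 3, (A.g * B.c + A.h * B.f + A.i * B.i) % 3⟩

/-- Determinant modulo 3. -/
def det (A : M3) : ℕ :=
  (A.a * (A.e * A.i + 2 * (A.f * A.h)) + 2 * (A.b * (A.d * A.i + 2 * (A.f * A.g)))
    + A.c * (A.d * A.h + 2 * (A.e * A.g))) % 3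

/-- The matrix with columns `v, A v, A ^ 2 v`. -/
def krylov (A : M3) (x y z : ℕ) : M3 :=
  let p := (A.a * x + A.b * y + A.c * z) % 3
  let q := (A.d * x + A.e * y + A.f * z) % 3
  let r := (A.g * x + A.h * y + A.i * z) % 3
  ⟨x, p, (A.a * p + A.b * q + A.c * r) % 3, y, q, (A.d * p + A.e * q + A.f * r) % 3, z, r, (A.g * p + A.h * q + A.i * r) % 3⟩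

/-- The identity. -/
def one : M3 := ⟨1, 0, 0, 0, 1, 0, 0, 0, 1⟩

/-- The standard transvection. -/
def t0 : M3 := ⟨1, 0, 1, 0, 1, 0, 0, 0, 1⟩

/-- The standard involution. -/
def d0 : M3 := ⟨2, 0, 0, 0, 2, 0, 0, 0, 1⟩

/-- Transvections by flag, with their inverses and a conjugating matrix with its inverse. -/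
def tdata : List (M3 × M3 × M3 × M3) := [
  (⟨1, 0, 0, 0, 1, 0, 0, 1, 1⟩, ⟨1, 0, 0, 0, 1, 0, 0, 2, 1⟩, ⟨0, 1, 0, 0, 0, 1, 1, 0, 0⟩, ⟨0, 0, 1, 1, 0, 0, 0, 1, 0⟩),
  (⟨1, 0, 0, 0, 1, 0, 1, 0, 1⟩, ⟨1, 0, 0, 0, 1, 0, 2, 0, 1⟩, ⟨0, 0, 1, 0, 2, 0, 1, 0, 0⟩, ⟨0, 0, 1, 0, 2, 0, 1, 0, 0⟩),
  (⟨1, 0, 0, 0, 1, 0, 1, 1, 1⟩, ⟨1, 0, 0, 0, 1, 0, 2, 2, 1⟩, ⟨0, 1, 0, 0, 2, 1, 1, 0, 0⟩, ⟨0, 0, 1, 1, 0, 0, 1, 1, 0⟩),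
  (⟨1, 0, 0, 0, 1, 0, 1, 2, 1⟩, ⟨1, 0, 0, 0, 1, 0, 2, 1, 1⟩, ⟨0, 2, 0, 0, 2, 1, 2, 0, 0⟩, ⟨0, 0, 2, 2, 0, 0, 2, 1, 0⟩),
  (⟨1, 0, 0, 0, 1, 1, 0, 0, 1⟩, ⟨1, 0, 0, 0, 1, 2, 0, 0, 1⟩, ⟨0, 2, 0, 1, 0, 0, 0, 0, 1⟩, ⟨0, 1, 0, 2, 0, 0, 0, 0, 1⟩),
  (⟨1, 0, 0, 1, 1, 0, 0, 0, 1⟩, ⟨1, 0, 0, 2, 1, 0, 0, 0, 1⟩, ⟨0, 0, 1, 1, 0, 0, 0, 1, 0⟩, ⟨0, 1, 0, 0, 0, 1, 1, 0, 0⟩),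
  (⟨1, 0, 0, 1, 1, 1, 0, 0, 1⟩, ⟨1, 0, 0, 2, 1, 2, 0, 0, 1⟩, ⟨0, 2, 0, 1, 0, 0, 0, 1, 1⟩, ⟨0, 1, 0, 2, 0, 0, 1, 0, 1⟩),
  (⟨1, 0, 0, 1, 1, 2, 0, 0, 1⟩, ⟨1, 0, 0, 2, 1, 1, 0, 0, 1⟩, ⟨0, 1, 0, 1, 0, 0, 0, 1, 2⟩, ⟨0, 1, 0, 1, 0, 0, 1, 0, 2⟩),
  (⟨1, 0, 0, 0, 2, 2, 0, 1, 0⟩, ⟨1, 0, 0, 0, 0, 1, 0, 2, 2⟩, ⟨0, 1, 0, 1, 0, 0, 1, 0, 2⟩, ⟨0, 1, 0, 1, 0, 0, 0, 1, 2⟩),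
  (⟨1, 0, 0, 1, 1, 0, 1, 0, 1⟩, ⟨1, 0, 0, 2, 1, 0, 2, 0, 1⟩, ⟨0, 0, 1, 1, 0, 0, 1, 1, 0⟩, ⟨0, 1, 0, 0, 2, 1, 1, 0, 0⟩),
  (⟨1, 0, 0, 1, 2, 2, 1, 1, 0⟩, ⟨1, 0, 0, 2, 0, 1, 2, 2, 2⟩, ⟨0, 1, 0, 1, 0, 0, 1, 1, 2⟩, ⟨0, 1, 0, 1, 0, 0, 1, 1, 2⟩),
  (⟨1, 0, 0, 1, 0, 1, 1, 2, 2⟩, ⟨1, 0, 0, 2, 2, 2, 2, 1, 0⟩, ⟨0, 2, 0, 1, 0, 0, 1, 1, 1⟩, ⟨0, 1, 0, 2, 0, 0, 1, 2, 1⟩),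
  (⟨1, 0, 0, 0, 2, 1, 0, 2, 0⟩, ⟨1, 0, 0, 0, 0, 2, 0, 1, 2⟩, ⟨0, 2, 0, 1, 0, 0, 2, 0, 1⟩, ⟨0, 1, 0, 2, 0, 0, 0, 1, 1⟩),
  (⟨1, 0, 0, 1, 1, 0, 2, 0, 1⟩, ⟨1, 0, 0, 2, 1, 0, 1, 0, 1⟩, ⟨0, 0, 1, 1, 0, 0, 2, 1, 0⟩, ⟨0, 1, 0, 0, 1, 1, 1, 0, 0⟩),
  (⟨1, 0, 0, 1, 2, 1, 2, 2, 0⟩, ⟨1, 0, 0, 2, 0, 2, 1, 1, 2⟩, ⟨0, 2, 0, 1, 0, 0, 2, 1, 1⟩, ⟨0, 1, 0, 2, 0, 0, 1, 1, 1⟩),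
  (⟨1, 0, 0, 1, 0, 2, 2, 1, 2⟩, ⟨1, 0, 0, 2, 2, 1, 1, 2, 0⟩, ⟨0, 1, 0, 1, 0, 0, 2, 1, 2⟩, ⟨0, 1, 0, 1, 0, 0, 1, 2, 2⟩),
  (⟨1, 0, 1, 0, 1, 0, 0, 0, 1⟩, ⟨1, 0, 2, 0, 1, 0, 0, 0, 1⟩, ⟨1, 0, 0, 0, 1, 0, 0, 0, 1⟩, ⟨1, 0, 0, 0, 1, 0, 0, 0, 1⟩),
  (⟨1, 1, 0, 0, 1, 0, 0, 0, 1⟩, ⟨1, 2, 0, 0, 1, 0, 0, 0, 1⟩, ⟨1, 0, 0, 0, 0, 1, 0, 2, 0⟩, ⟨1, 0, 0, 0, 0, 2, 0, 1, 0⟩),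
  (⟨1, 1, 1, 0, 1, 0, 0, 0, 1⟩, ⟨1, 2, 2, 0, 1, 0, 0, 0, 1⟩, ⟨1, 0, 0, 0, 1, 0, 0, 2, 1⟩, ⟨1, 0, 0, 0, 1, 0, 0, 1, 1⟩),
  (⟨1, 1, 2, 0, 1, 0, 0, 0, 1⟩, ⟨1, 2, 1, 0, 1, 0, 0, 0, 1⟩, ⟨1, 0, 0, 0, 2, 0, 0, 2, 2⟩, ⟨1, 0, 0, 0, 2, 0, 0, 1, 2⟩),
  (⟨1, 1, 0, 0, 1, 0, 0, 1, 1⟩, ⟨1, 2, 0, 0, 1, 0, 0, 2, 1⟩, ⟨1, 0, 0, 0, 0, 1, 1, 2, 0⟩, ⟨1, 0, 0, 1, 0, 2, 0, 1, 0⟩),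
  (⟨2, 0, 2, 0, 1, 0, 1, 0, 0⟩, ⟨0, 0, 1, 0, 1, 0, 2, 0, 2⟩, ⟨1, 0, 0, 0, 2, 0, 1, 0, 2⟩, ⟨1, 0, 0, 0, 2, 0, 1, 0, 2⟩),
  (⟨2, 1, 2, 0, 1, 0, 1, 1, 0⟩, ⟨0, 2, 1, 0, 1, 0, 2, 2, 2⟩, ⟨1, 0, 0, 0, 2, 0, 1, 2, 2⟩, ⟨1, 0, 0, 0, 2, 0, 1, 1, 2⟩),
  (⟨2, 2, 2, 0, 1, 0, 1, 2, 0⟩, ⟨0, 1, 1, 0, 1, 0, 2, 1, 2⟩, ⟨1, 0, 0, 0, 2, 0, 1, 1, 2⟩, ⟨1, 0, 0, 0, 2, 0, 1, 2, 2⟩),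
  (⟨1, 1, 0, 0, 1, 0, 0, 2, 1⟩, ⟨1, 2, 0, 0, 1, 0, 0, 1, 1⟩, ⟨1, 0, 0, 0, 0, 1, 2, 2, 0⟩, ⟨1, 0, 0, 2, 0, 2, 0, 1, 0⟩),
  (⟨2, 0, 1, 0, 1, 0, 2, 0, 0⟩, ⟨0, 0, 2, 0, 1, 0, 1, 0, 2⟩, ⟨1, 0, 0, 0, 1, 0, 2, 0, 1⟩, ⟨1, 0, 0, 0, 1, 0, 1, 0, 1⟩),
  (⟨2, 1, 1, 0, 1, 0, 2, 2, 0⟩, ⟨0, 2, 2, 0, 1, 0, 1, 1, 2⟩, ⟨1, 0, 0, 0, 1, 0, 2, 2, 1⟩, ⟨1, 0, 0, 0, 1, 0, 1, 1, 1⟩),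
  (⟨2, 2, 1, 0, 1, 0, 2, 1, 0⟩, ⟨0, 1, 2, 0, 1, 0, 1, 2, 2⟩, ⟨1, 0, 0, 0, 1, 0, 2, 1, 1⟩, ⟨1, 0, 0, 0, 1, 0, 1, 2, 1⟩),
  (⟨1, 0, 1, 0, 1, 1, 0, 0, 1⟩, ⟨1, 0, 2, 0, 1, 2, 0, 0, 1⟩, ⟨1, 0, 0, 1, 1, 0, 0, 0, 1⟩, ⟨1, 0, 0, 2, 1, 0, 0, 0, 1⟩),
  (⟨2, 2, 0, 1, 0, 0, 0, 0, 1⟩, ⟨0, 1, 0, 2, 2, 0, 0, 0, 1⟩, ⟨1, 0, 0, 1, 0, 2, 0, 1, 0⟩, ⟨1, 0, 0, 0, 0, 1, 1, 2, 0⟩),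
  (⟨2, 2, 1, 1, 0, 1, 0, 0, 1⟩, ⟨0, 1, 2, 2, 2, 2, 0, 0, 1⟩, ⟨1, 0, 0, 1, 1, 0, 0, 1, 1⟩, ⟨1, 0, 0, 2, 1, 0, 1, 2, 1⟩),
  (⟨2, 2, 2, 1, 0, 2, 0, 0, 1⟩, ⟨0, 1, 1, 2, 2, 1, 0, 0, 1⟩, ⟨1, 0, 0, 1, 2, 0, 0, 1, 2⟩, ⟨1, 0, 0, 1, 2, 0, 1, 2, 2⟩),
  (⟨1, 1, 2, 0, 2, 2, 0, 1, 0⟩, ⟨1, 2, 1, 0, 0, 1, 0, 2, 2⟩, ⟨1, 0, 0, 1, 2, 0, 1, 2, 2⟩, ⟨1, 0, 0, 1, 2, 0, 0, 1, 2⟩),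
  (⟨2, 0, 2, 1, 1, 2, 1, 0, 0⟩, ⟨0, 0, 1, 2, 1, 1, 2, 0, 2⟩, ⟨1, 0, 0, 1, 2, 0, 1, 0, 2⟩, ⟨1, 0, 0, 1, 2, 0, 1, 0, 2⟩),
  (⟨2, 1, 1, 1, 2, 1, 1, 1, 2⟩, ⟨0, 2, 2, 2, 0, 2, 2, 2, 0⟩, ⟨1, 0, 0, 1, 1, 0, 1, 2, 1⟩, ⟨1, 0, 0, 2, 1, 0, 1, 1, 1⟩),
  (⟨2, 2, 0, 1, 0, 0, 1, 2, 1⟩, ⟨0, 1, 0, 2, 2, 0, 2, 1, 1⟩, ⟨1, 0, 0, 1, 0, 2, 1, 1, 0⟩, ⟨1, 0, 0, 2, 0, 1, 1, 2, 0⟩),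
  (⟨1, 1, 1, 0, 2, 1, 0, 2, 0⟩, ⟨1, 2, 2, 0, 0, 2, 0, 1, 2⟩, ⟨1, 0, 0, 1, 1, 0, 2, 2, 1⟩, ⟨1, 0, 0, 2, 1, 0, 0, 1, 1⟩),
  (⟨2, 0, 1, 1, 1, 1, 2, 0, 0⟩, ⟨0, 0, 2, 2, 1, 2, 1, 0, 2⟩, ⟨1, 0, 0, 1, 1, 0, 2, 0, 1⟩, ⟨1, 0, 0, 2, 1, 0, 1, 0, 1⟩),
  (⟨2, 1, 2, 1, 2, 2, 2, 2, 2⟩, ⟨0, 2, 1, 2, 0, 1, 1, 1, 0⟩, ⟨1, 0, 0, 1, 2, 0, 2, 2, 2⟩, ⟨1, 0, 0, 1, 2, 0, 1, 1, 2⟩),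
  (⟨2, 2, 0, 1, 0, 0, 2, 1, 1⟩, ⟨0, 1, 0, 2, 2, 0, 1, 2, 1⟩, ⟨1, 0, 0, 1, 0, 2, 2, 1, 0⟩, ⟨1, 0, 0, 1, 0, 1, 1, 2, 0⟩),
  (⟨1, 0, 1, 0, 1, 2, 0, 0, 1⟩, ⟨1, 0, 2, 0, 1, 1, 0, 0, 1⟩, ⟨1, 0, 0, 2, 1, 0, 0, 0, 1⟩, ⟨1, 0, 0, 1, 1, 0, 0, 0, 1⟩),
  (⟨2, 1, 0, 2, 0, 0, 0, 0, 1⟩, ⟨0, 2, 0, 1, 2, 0, 0, 0, 1⟩, ⟨1, 0, 0, 2, 0, 1, 0, 2, 0⟩, ⟨1, 0, 0, 0, 0, 2, 1, 1, 0⟩),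
  (⟨2, 1, 1, 2, 0, 2, 0, 0, 1⟩, ⟨0, 2, 2, 1, 2, 1, 0, 0, 1⟩, ⟨1, 0, 0, 2, 1, 0, 0, 2, 1⟩, ⟨1, 0, 0, 1, 1, 0, 1, 1, 1⟩),
  (⟨2, 1, 2, 2, 0, 1, 0, 0, 1⟩, ⟨0, 2, 1, 1, 2, 2, 0, 0, 1⟩, ⟨1, 0, 0, 2, 2, 0, 0, 2, 2⟩, ⟨1, 0, 0, 2, 2, 0, 1, 1, 2⟩),
  (⟨1, 1, 1, 0, 0, 2, 0, 1, 2⟩, ⟨1, 2, 2, 0, 2, 1, 0, 2, 0⟩, ⟨1, 0, 0, 2, 1, 0, 1, 2, 1⟩, ⟨1, 0, 0, 1, 1, 0, 0, 1, 1⟩),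
  (⟨2, 0, 2, 2, 1, 1, 1, 0, 0⟩, ⟨0, 0, 1, 1, 1, 2, 2, 0, 2⟩, ⟨1, 0, 0, 2, 2, 0, 1, 0, 2⟩, ⟨1, 0, 0, 2, 2, 0, 1, 0, 2⟩),
  (⟨2, 1, 0, 2, 0, 0, 1, 1, 1⟩, ⟨0, 2, 0, 1, 2, 0, 2, 2, 1⟩, ⟨1, 0, 0, 2, 0, 1, 1, 2, 0⟩, ⟨1, 0, 0, 1, 0, 2, 1, 1, 0⟩),
  (⟨2, 2, 1, 2, 2, 2, 1, 2, 2⟩, ⟨0, 1, 2, 1, 0, 1, 2, 1, 0⟩, ⟨1, 0, 0, 2, 1, 0, 1, 1, 1⟩, ⟨1, 0, 0, 1, 1, 0, 1, 2, 1⟩),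
  (⟨1, 1, 2, 0, 0, 1, 0, 2, 2⟩, ⟨1, 2, 1, 0, 2, 2, 0, 1, 0⟩, ⟨1, 0, 0, 2, 2, 0, 2, 2, 2⟩, ⟨1, 0, 0, 2, 2, 0, 0, 1, 2⟩),
  (⟨2, 0, 1, 2, 1, 2, 2, 0, 0⟩, ⟨0, 0, 2, 1, 1, 1, 1, 0, 2⟩, ⟨1, 0, 0, 2, 1, 0, 2, 0, 1⟩, ⟨1, 0, 0, 1, 1, 0, 1, 0, 1⟩),
  (⟨2, 1, 0, 2, 0, 0, 2, 2, 1⟩, ⟨0, 2, 0, 1, 2, 0, 1, 1, 1⟩, ⟨1, 0, 0, 2, 0, 1, 2, 2, 0⟩, ⟨1, 0, 0, 2, 0, 2, 1, 1, 0⟩),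
  (⟨2, 2, 2, 2, 2, 1, 2, 1, 2⟩, ⟨0, 1, 1, 1, 0, 2, 1, 2, 0⟩, ⟨1, 0, 0, 2, 2, 0, 2, 1, 2⟩, ⟨1, 0, 0, 2, 2, 0, 1, 2, 2⟩)]

/-- Involutions with a conjugating matrix and its inverse. -/
def idata : List (M3 × M3 × M3) := [
  (⟨0, 0, 1, 0, 2, 0, 1, 0, 0⟩, ⟨0, 1, 1, 1, 0, 0, 0, 2, 1⟩, ⟨0, 1, 0, 2, 0, 1, 2, 0, 2⟩),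
  (⟨0, 0, 1, 1, 2, 1, 1, 0, 0⟩, ⟨0, 1, 1, 1, 0, 1, 0, 2, 1⟩, ⟨1, 1, 1, 2, 0, 1, 2, 0, 2⟩),
  (⟨0, 0, 1, 2, 2, 2, 1, 0, 0⟩, ⟨0, 1, 1, 1, 0, 2, 0, 2, 1⟩, ⟨2, 1, 2, 2, 0, 1, 2, 0, 2⟩),
  (⟨0, 0, 2, 0, 2, 0, 2, 0, 0⟩, ⟨0, 1, 1, 2, 0, 0, 0, 1, 2⟩, ⟨0, 2, 0, 2, 0, 2, 2, 0, 1⟩),
  (⟨0, 0, 2, 1, 2, 2, 2, 0, 0⟩, ⟨0, 1, 1, 2, 0, 1, 0, 1, 2⟩, ⟨2, 2, 1, 2, 0, 2, 2, 0, 1⟩),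
  (⟨0, 0, 2, 2, 2, 1, 2, 0, 0⟩, ⟨0, 1, 1, 2, 0, 2, 0, 1, 2⟩, ⟨1, 2, 2, 2, 0, 2, 2, 0, 1⟩),
  (⟨0, 1, 0, 1, 0, 0, 0, 0, 2⟩, ⟨0, 1, 1, 0, 2, 1, 2, 0, 0⟩, ⟨0, 0, 2, 2, 1, 0, 2, 2, 0⟩),
  (⟨0, 1, 0, 1, 0, 0, 1, 1, 2⟩, ⟨0, 1, 1, 0, 2, 1, 2, 0, 1⟩, ⟨2, 2, 2, 2, 1, 0, 2, 2, 0⟩),
  (⟨0, 1, 0, 1, 0, 0, 2, 2, 2⟩, ⟨0, 1, 1, 0, 2, 1, 2, 0, 2⟩, ⟨1, 1, 2, 2, 1, 0, 2, 2, 0⟩),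
  (⟨0, 1, 1, 0, 2, 0, 1, 1, 0⟩, ⟨0, 1, 1, 1, 0, 0, 2, 2, 1⟩, ⟨0, 1, 0, 2, 1, 1, 2, 2, 2⟩),
  (⟨0, 1, 1, 1, 0, 1, 0, 0, 2⟩, ⟨0, 1, 1, 1, 0, 1, 2, 2, 0⟩, ⟨1, 2, 1, 2, 1, 1, 2, 2, 2⟩),
  (⟨0, 1, 1, 2, 1, 2, 2, 2, 1⟩, ⟨0, 1, 1, 1, 0, 2, 2, 2, 2⟩, ⟨2, 0, 2, 2, 1, 1, 2, 2, 2⟩),
  (⟨0, 1, 2, 0, 2, 0, 2, 2, 0⟩, ⟨0, 1, 1, 2, 0, 0, 2, 1, 2⟩, ⟨0, 2, 0, 2, 1, 2, 2, 2, 1⟩),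
  (⟨0, 1, 2, 1, 0, 2, 0, 0, 2⟩, ⟨0, 1, 1, 2, 0, 1, 2, 1, 0⟩, ⟨2, 1, 1, 2, 1, 2, 2, 2, 1⟩),
  (⟨0, 1, 2, 2, 1, 1, 1, 1, 1⟩, ⟨0, 1, 1, 2, 0, 2, 2, 1, 1⟩, ⟨1, 0, 2, 2, 1, 2, 2, 2, 1⟩),
  (⟨0, 2, 0, 2, 0, 0, 0, 0, 2⟩, ⟨0, 1, 1, 0, 1, 2, 1, 0, 0⟩, ⟨0, 0, 1, 2, 2, 0, 2, 1, 0⟩),
  (⟨0, 2, 0, 2, 0, 0, 1, 2, 2⟩, ⟨0, 1, 1, 0, 1, 2, 1, 0, 1⟩, ⟨1, 2, 1, 2, 2, 0, 2, 1, 0⟩),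
  (⟨0, 2, 0, 2, 0, 0, 2, 1, 2⟩, ⟨0, 1, 1, 0, 1, 2, 1, 0, 2⟩, ⟨2, 1, 1, 2, 2, 0, 2, 1, 0⟩),
  (⟨0, 2, 1, 0, 2, 0, 1, 2, 0⟩, ⟨0, 1, 1, 1, 0, 0, 1, 2, 1⟩, ⟨0, 1, 0, 2, 2, 1, 2, 1, 2⟩),
  (⟨0, 2, 1, 1, 1, 1, 2, 1, 1⟩, ⟨0, 1, 1, 1, 0, 1, 1, 2, 2⟩, ⟨1, 0, 1, 2, 2, 1, 2, 1, 2⟩),
  (⟨0, 2, 1, 2, 0, 2, 0, 0, 2⟩, ⟨0, 1, 1, 1, 0, 2, 1, 2, 0⟩, ⟨2, 2, 2, 2, 2, 1, 2, 1, 2⟩),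
  (⟨0, 2, 2, 0, 2, 0, 2, 1, 0⟩, ⟨0, 1, 1, 2, 0, 0, 1, 1, 2⟩, ⟨0, 2, 0, 2, 2, 2, 2, 1, 1⟩),
  (⟨0, 2, 2, 1, 1, 2, 1, 2, 1⟩, ⟨0, 1, 1, 2, 0, 1, 1, 1, 1⟩, ⟨2, 0, 1, 2, 2, 2, 2, 1, 1⟩),
  (⟨0, 2, 2, 2, 0, 1, 0, 0, 2⟩, ⟨0, 1, 1, 2, 0, 2, 1, 1, 0⟩, ⟨1, 1, 2, 2, 2, 2, 2, 1, 1⟩),
  (⟨1, 0, 0, 0, 2, 0, 0, 0, 2⟩, ⟨0, 0, 1, 0, 1, 0, 2, 0, 0⟩, ⟨0, 0, 2, 0, 1, 0, 1, 0, 0⟩),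
  (⟨1, 0, 0, 0, 2, 0, 1, 0, 2⟩, ⟨0, 0, 1, 0, 1, 0, 2, 0, 2⟩, ⟨2, 0, 2, 0, 1, 0, 1, 0, 0⟩),
  (⟨1, 0, 0, 0, 2, 0, 2, 0, 2⟩, ⟨0, 0, 1, 0, 1, 0, 2, 0, 1⟩, ⟨1, 0, 2, 0, 1, 0, 1, 0, 0⟩),
  (⟨1, 0, 0, 1, 2, 0, 0, 0, 2⟩, ⟨0, 0, 1, 0, 1, 2, 2, 0, 0⟩, ⟨0, 0, 2, 1, 1, 0, 1, 0, 0⟩),
  (⟨1, 0, 0, 1, 2, 0, 1, 0, 2⟩, ⟨0, 0, 1, 0, 1, 2, 2, 0, 2⟩, ⟨2, 0, 2, 1, 1, 0, 1, 0, 0⟩),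
  (⟨1, 0, 0, 1, 2, 0, 2, 0, 2⟩, ⟨0, 0, 1, 0, 1, 2, 2, 0, 1⟩, ⟨1, 0, 2, 1, 1, 0, 1, 0, 0⟩),
  (⟨1, 0, 0, 2, 2, 0, 0, 0, 2⟩, ⟨0, 0, 1, 0, 1, 1, 2, 0, 0⟩, ⟨0, 0, 2, 2, 1, 0, 1, 0, 0⟩),
  (⟨1, 0, 0, 2, 2, 0, 1, 0, 2⟩, ⟨0, 0, 1, 0, 1, 1, 2, 0, 2⟩, ⟨2, 0, 2, 2, 1, 0, 1, 0, 0⟩),
  (⟨1, 0, 0, 2, 2, 0, 2, 0, 2⟩, ⟨0, 0, 1, 0, 1, 1, 2, 0, 1⟩, ⟨1, 0, 2, 2, 1, 0, 1, 0, 0⟩),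
  (⟨1, 0, 1, 0, 2, 0, 0, 0, 2⟩, ⟨0, 1, 1, 1, 0, 0, 0, 1, 0⟩, ⟨0, 1, 0, 0, 0, 1, 1, 0, 2⟩),
  (⟨1, 0, 1, 1, 2, 2, 0, 0, 2⟩, ⟨0, 1, 1, 1, 0, 2, 0, 1, 0⟩, ⟨1, 1, 2, 0, 0, 1, 1, 0, 2⟩),
  (⟨1, 0, 1, 2, 2, 1, 0, 0, 2⟩, ⟨0, 1, 1, 1, 0, 1, 0, 1, 0⟩, ⟨2, 1, 1, 0, 0, 1, 1, 0, 2⟩),
  (⟨1, 0, 2, 0, 2, 0, 0, 0, 2⟩, ⟨0, 1, 1, 2, 0, 0, 0, 2, 0⟩, ⟨0, 2, 0, 0, 0, 2, 1, 0, 1⟩),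
  (⟨1, 0, 2, 1, 2, 1, 0, 0, 2⟩, ⟨0, 1, 1, 2, 0, 2, 0, 2, 0⟩, ⟨2, 2, 2, 0, 0, 2, 1, 0, 1⟩),
  (⟨1, 0, 2, 2, 2, 2, 0, 0, 2⟩, ⟨0, 1, 1, 2, 0, 1, 0, 2, 0⟩, ⟨1, 2, 1, 0, 0, 2, 1, 0, 1⟩),
  (⟨1, 1, 0, 0, 2, 0, 0, 0, 2⟩, ⟨0, 1, 1, 0, 1, 0, 2, 0, 0⟩, ⟨0, 0, 2, 0, 1, 0, 1, 2, 0⟩),
  (⟨1, 1, 0, 0, 2, 0, 1, 2, 2⟩, ⟨0, 1, 1, 0, 1, 0, 2, 0, 2⟩, ⟨2, 1, 2, 0, 1, 0, 1, 2, 0⟩),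
  (⟨1, 1, 0, 0, 2, 0, 2, 1, 2⟩, ⟨0, 1, 1, 0, 1, 0, 2, 0, 1⟩, ⟨1, 2, 2, 0, 1, 0, 1, 2, 0⟩),
  (⟨1, 1, 1, 0, 2, 0, 0, 0, 2⟩, ⟨0, 1, 1, 1, 0, 0, 2, 1, 0⟩, ⟨0, 1, 0, 0, 1, 1, 1, 2, 2⟩),
  (⟨1, 1, 1, 1, 1, 2, 2, 1, 0⟩, ⟨0, 1, 1, 1, 0, 2, 2, 1, 1⟩, ⟨1, 0, 2, 0, 1, 1, 1, 2, 2⟩),
  (⟨1, 1, 1, 2, 0, 1, 1, 2, 1⟩, ⟨0, 1, 1, 1, 0, 1, 2, 1, 2⟩, ⟨2, 2, 1, 0, 1, 1, 1, 2, 2⟩),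
  (⟨1, 1, 2, 0, 2, 0, 0, 0, 2⟩, ⟨0, 1, 1, 2, 0, 0, 2, 2, 0⟩, ⟨0, 2, 0, 0, 1, 2, 1, 2, 1⟩),
  (⟨1, 1, 2, 1, 1, 1, 1, 2, 0⟩, ⟨0, 1, 1, 2, 0, 2, 2, 2, 2⟩, ⟨2, 0, 2, 0, 1, 2, 1, 2, 1⟩),
  (⟨1, 1, 2, 2, 0, 2, 2, 1, 1⟩, ⟨0, 1, 1, 2, 0, 1, 2, 2, 1⟩, ⟨1, 1, 1, 0, 1, 2, 1, 2, 1⟩),
  (⟨1, 2, 0, 0, 2, 0, 0, 0, 2⟩, ⟨0, 1, 1, 0, 2, 0, 1, 0, 0⟩, ⟨0, 0, 1, 0, 2, 0, 1, 1, 0⟩),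
  (⟨1, 2, 0, 0, 2, 0, 1, 1, 2⟩, ⟨0, 1, 1, 0, 2, 0, 1, 0, 2⟩, ⟨1, 1, 1, 0, 2, 0, 1, 1, 0⟩),
  (⟨1, 2, 0, 0, 2, 0, 2, 2, 2⟩, ⟨0, 1, 1, 0, 2, 0, 1, 0, 1⟩, ⟨2, 2, 1, 0, 2, 0, 1, 1, 0⟩),
  (⟨1, 2, 1, 0, 2, 0, 0, 0, 2⟩, ⟨0, 1, 1, 1, 0, 0, 1, 1, 0⟩, ⟨0, 1, 0, 0, 2, 1, 1, 1, 2⟩),
  (⟨1, 2, 1, 1, 0, 2, 1, 1, 1⟩, ⟨0, 1, 1, 1, 0, 2, 1, 1, 2⟩, ⟨1, 2, 2, 0, 2, 1, 1, 1, 2⟩),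
  (⟨1, 2, 1, 2, 1, 1, 2, 2, 0⟩, ⟨0, 1, 1, 1, 0, 1, 1, 1, 1⟩, ⟨2, 0, 1, 0, 2, 1, 1, 1, 2⟩),
  (⟨1, 2, 2, 0, 2, 0, 0, 0, 2⟩, ⟨0, 1, 1, 2, 0, 0, 1, 2, 0⟩, ⟨0, 2, 0, 0, 2, 2, 1, 1, 1⟩),
  (⟨1, 2, 2, 1, 0, 1, 2, 2, 1⟩, ⟨0, 1, 1, 2, 0, 2, 1, 2, 1⟩, ⟨2, 1, 2, 0, 2, 2, 1, 1, 1⟩),
  (⟨1, 2, 2, 2, 1, 2, 1, 1, 0⟩, ⟨0, 1, 1, 2, 0, 1, 1, 2, 2⟩, ⟨1, 0, 1, 0, 2, 2, 1, 1, 1⟩),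
  (⟨2, 0, 0, 0, 0, 1, 0, 1, 0⟩, ⟨0, 1, 0, 1, 0, 1, 2, 0, 1⟩, ⟨0, 2, 1, 1, 0, 0, 0, 2, 2⟩),
  (⟨2, 0, 0, 0, 0, 2, 0, 2, 0⟩, ⟨0, 1, 0, 1, 0, 2, 1, 0, 1⟩, ⟨0, 2, 2, 1, 0, 0, 0, 1, 2⟩),
  (⟨2, 0, 0, 0, 1, 0, 0, 0, 2⟩, ⟨0, 1, 0, 0, 0, 1, 1, 0, 0⟩, ⟨0, 0, 1, 1, 0, 0, 0, 1, 0⟩),
  (⟨2, 0, 0, 0, 1, 0, 0, 1, 2⟩, ⟨0, 1, 0, 0, 0, 1, 1, 0, 2⟩, ⟨0, 1, 1, 1, 0, 0, 0, 1, 0⟩),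
  (⟨2, 0, 0, 0, 1, 0, 0, 2, 2⟩, ⟨0, 1, 0, 0, 0, 1, 1, 0, 1⟩, ⟨0, 2, 1, 1, 0, 0, 0, 1, 0⟩),
  (⟨2, 0, 0, 0, 1, 1, 0, 0, 2⟩, ⟨0, 1, 0, 1, 0, 1, 1, 0, 0⟩, ⟨0, 0, 1, 1, 0, 0, 0, 1, 2⟩),
  (⟨2, 0, 0, 0, 1, 2, 0, 0, 2⟩, ⟨0, 1, 0, 1, 0, 2, 2, 0, 0⟩, ⟨0, 0, 2, 1, 0, 0, 0, 2, 2⟩),
  (⟨2, 0, 0, 0, 2, 0, 0, 0, 1⟩, ⟨0, 1, 0, 1, 0, 0, 0, 0, 2⟩, ⟨0, 1, 0, 1, 0, 0, 0, 0, 2⟩),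
  (⟨2, 0, 0, 0, 2, 0, 0, 1, 1⟩, ⟨0, 1, 0, 1, 0, 0, 1, 0, 2⟩, ⟨0, 1, 0, 1, 0, 0, 0, 1, 2⟩),
  (⟨2, 0, 0, 0, 2, 0, 0, 2, 1⟩, ⟨0, 1, 0, 1, 0, 0, 2, 0, 2⟩, ⟨0, 1, 0, 1, 0, 0, 0, 2, 2⟩),
  (⟨2, 0, 0, 0, 2, 0, 1, 0, 1⟩, ⟨0, 1, 0, 1, 0, 0, 0, 1, 2⟩, ⟨0, 1, 0, 1, 0, 0, 1, 0, 2⟩),
  (⟨2, 0, 0, 0, 2, 0, 1, 1, 1⟩, ⟨0, 1, 0, 1, 0, 0, 1, 1, 2⟩, ⟨0, 1, 0, 1, 0, 0, 1, 1, 2⟩),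
  (⟨2, 0, 0, 0, 2, 0, 1, 2, 1⟩, ⟨0, 1, 0, 1, 0, 0, 2, 1, 2⟩, ⟨0, 1, 0, 1, 0, 0, 1, 2, 2⟩),
  (⟨2, 0, 0, 0, 2, 0, 2, 0, 1⟩, ⟨0, 1, 0, 1, 0, 0, 0, 2, 2⟩, ⟨0, 1, 0, 1, 0, 0, 2, 0, 2⟩),
  (⟨2, 0, 0, 0, 2, 0, 2, 1, 1⟩, ⟨0, 1, 0, 1, 0, 0, 1, 2, 2⟩, ⟨0, 1, 0, 1, 0, 0, 2, 1, 2⟩),
  (⟨2, 0, 0, 0, 2, 0, 2, 2, 1⟩, ⟨0, 1, 0, 1, 0, 0, 2, 2, 2⟩, ⟨0, 1, 0, 1, 0, 0, 2, 2, 2⟩),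
  (⟨2, 0, 0, 0, 2, 1, 0, 0, 1⟩, ⟨0, 1, 0, 1, 0, 1, 0, 0, 2⟩, ⟨0, 1, 1, 1, 0, 0, 0, 0, 2⟩),
  (⟨2, 0, 0, 0, 2, 2, 0, 0, 1⟩, ⟨0, 1, 0, 1, 0, 2, 0, 0, 2⟩, ⟨0, 1, 2, 1, 0, 0, 0, 0, 2⟩),
  (⟨2, 0, 0, 1, 0, 1, 1, 1, 0⟩, ⟨0, 1, 0, 1, 0, 1, 2, 2, 1⟩, ⟨1, 2, 1, 1, 0, 0, 2, 2, 2⟩),
  (⟨2, 0, 0, 1, 0, 2, 2, 2, 0⟩, ⟨0, 1, 0, 1, 0, 2, 1, 1, 1⟩, ⟨1, 2, 2, 1, 0, 0, 1, 1, 2⟩),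
  (⟨2, 0, 0, 1, 1, 0, 0, 0, 2⟩, ⟨0, 1, 0, 0, 1, 1, 1, 0, 0⟩, ⟨0, 0, 1, 1, 0, 0, 2, 1, 0⟩),
  (⟨2, 0, 0, 1, 1, 0, 1, 2, 2⟩, ⟨0, 1, 0, 0, 1, 1, 1, 0, 1⟩, ⟨1, 2, 1, 1, 0, 0, 2, 1, 0⟩),
  (⟨2, 0, 0, 1, 1, 0, 2, 1, 2⟩, ⟨0, 1, 0, 0, 1, 1, 1, 0, 2⟩, ⟨2, 1, 1, 1, 0, 0, 2, 1, 0⟩),
  (⟨2, 0, 0, 1, 1, 1, 0, 0, 2⟩, ⟨0, 1, 0, 1, 0, 1, 1, 2, 0⟩, ⟨1, 0, 1, 1, 0, 0, 2, 1, 2⟩),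
  (⟨2, 0, 0, 1, 1, 2, 0, 0, 2⟩, ⟨0, 1, 0, 1, 0, 2, 2, 1, 0⟩, ⟨1, 0, 2, 1, 0, 0, 1, 2, 2⟩),
  (⟨2, 0, 0, 1, 2, 1, 2, 0, 1⟩, ⟨0, 1, 0, 1, 0, 1, 0, 2, 2⟩, ⟨1, 1, 1, 1, 0, 0, 2, 0, 2⟩),
  (⟨2, 0, 0, 1, 2, 2, 1, 0, 1⟩, ⟨0, 1, 0, 1, 0, 2, 0, 1, 2⟩, ⟨1, 1, 2, 1, 0, 0, 1, 0, 2⟩),
  (⟨2, 0, 0, 2, 0, 1, 2, 1, 0⟩, ⟨0, 1, 0, 1, 0, 1, 2, 1, 1⟩, ⟨2, 2, 1, 1, 0, 0, 1, 2, 2⟩),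
  (⟨2, 0, 0, 2, 0, 2, 1, 2, 0⟩, ⟨0, 1, 0, 1, 0, 2, 1, 2, 1⟩, ⟨2, 2, 2, 1, 0, 0, 2, 1, 2⟩),
  (⟨2, 0, 0, 2, 1, 0, 0, 0, 2⟩, ⟨0, 1, 0, 0, 2, 1, 1, 0, 0⟩, ⟨0, 0, 1, 1, 0, 0, 1, 1, 0⟩),
  (⟨2, 0, 0, 2, 1, 0, 1, 1, 2⟩, ⟨0, 1, 0, 0, 2, 1, 1, 0, 2⟩, ⟨1, 1, 1, 1, 0, 0, 1, 1, 0⟩),
  (⟨2, 0, 0, 2, 1, 0, 2, 2, 2⟩, ⟨0, 1, 0, 0, 2, 1, 1, 0, 1⟩, ⟨2, 2, 1, 1, 0, 0, 1, 1, 0⟩),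
  (⟨2, 0, 0, 2, 1, 1, 0, 0, 2⟩, ⟨0, 1, 0, 1, 0, 1, 1, 1, 0⟩, ⟨2, 0, 1, 1, 0, 0, 1, 1, 2⟩),
  (⟨2, 0, 0, 2, 1, 2, 0, 0, 2⟩, ⟨0, 1, 0, 1, 0, 2, 2, 2, 0⟩, ⟨2, 0, 2, 1, 0, 0, 2, 2, 2⟩),
  (⟨2, 0, 0, 2, 2, 1, 1, 0, 1⟩, ⟨0, 1, 0, 1, 0, 1, 0, 1, 2⟩, ⟨2, 1, 1, 1, 0, 0, 1, 0, 2⟩),
  (⟨2, 0, 0, 2, 2, 2, 2, 0, 1⟩, ⟨0, 1, 0, 1, 0, 2, 0, 2, 2⟩, ⟨2, 1, 2, 1, 0, 0, 2, 0, 2⟩),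
  (⟨2, 0, 1, 0, 2, 0, 0, 0, 1⟩, ⟨0, 1, 1, 1, 0, 0, 0, 0, 2⟩, ⟨0, 1, 0, 1, 0, 1, 0, 0, 2⟩),
  (⟨2, 0, 1, 0, 2, 1, 0, 0, 1⟩, ⟨0, 1, 1, 1, 0, 1, 0, 0, 2⟩, ⟨0, 1, 1, 1, 0, 1, 0, 0, 2⟩),
  (⟨2, 0, 1, 0, 2, 2, 0, 0, 1⟩, ⟨0, 1, 1, 1, 0, 2, 0, 0, 2⟩, ⟨0, 1, 2, 1, 0, 1, 0, 0, 2⟩),
  (⟨2, 0, 2, 0, 2, 0, 0, 0, 1⟩, ⟨0, 1, 1, 2, 0, 0, 0, 0, 1⟩, ⟨0, 2, 0, 1, 0, 2, 0, 0, 1⟩),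
  (⟨2, 0, 2, 0, 2, 1, 0, 0, 1⟩, ⟨0, 1, 1, 2, 0, 2, 0, 0, 1⟩, ⟨0, 2, 2, 1, 0, 2, 0, 0, 1⟩),
  (⟨2, 0, 2, 0, 2, 2, 0, 0, 1⟩, ⟨0, 1, 1, 2, 0, 1, 0, 0, 1⟩, ⟨0, 2, 1, 1, 0, 2, 0, 0, 1⟩),
  (⟨2, 1, 0, 0, 1, 0, 0, 0, 2⟩, ⟨0, 1, 1, 0, 0, 2, 2, 0, 0⟩, ⟨0, 0, 2, 1, 1, 0, 0, 2, 0⟩),
  (⟨2, 1, 0, 0, 1, 0, 0, 1, 2⟩, ⟨0, 1, 1, 0, 0, 2, 2, 0, 1⟩, ⟨0, 2, 2, 1, 1, 0, 0, 2, 0⟩),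
  (⟨2, 1, 0, 0, 1, 0, 0, 2, 2⟩, ⟨0, 1, 1, 0, 0, 2, 2, 0, 2⟩, ⟨0, 1, 2, 1, 1, 0, 0, 2, 0⟩),
  (⟨2, 1, 1, 0, 0, 1, 0, 1, 0⟩, ⟨0, 1, 1, 1, 0, 1, 2, 0, 1⟩, ⟨0, 2, 1, 1, 1, 1, 0, 2, 2⟩),
  (⟨2, 1, 1, 0, 1, 2, 0, 0, 2⟩, ⟨0, 1, 1, 1, 0, 2, 2, 0, 0⟩, ⟨0, 0, 2, 1, 1, 1, 0, 2, 2⟩),
  (⟨2, 1, 1, 0, 2, 0, 0, 2, 1⟩, ⟨0, 1, 1, 1, 0, 0, 2, 0, 2⟩, ⟨0, 1, 0, 1, 1, 1, 0, 2, 2⟩),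
  (⟨2, 1, 2, 0, 0, 2, 0, 2, 0⟩, ⟨0, 1, 1, 2, 0, 1, 2, 0, 2⟩, ⟨0, 1, 1, 1, 1, 2, 0, 2, 1⟩),
  (⟨2, 1, 2, 0, 1, 1, 0, 0, 2⟩, ⟨0, 1, 1, 2, 0, 2, 2, 0, 0⟩, ⟨0, 0, 2, 1, 1, 2, 0, 2, 1⟩),
  (⟨2, 1, 2, 0, 2, 0, 0, 1, 1⟩, ⟨0, 1, 1, 2, 0, 0, 2, 0, 1⟩, ⟨0, 2, 0, 1, 1, 2, 0, 2, 1⟩),
  (⟨2, 2, 0, 0, 1, 0, 0, 0, 2⟩, ⟨0, 1, 1, 0, 0, 1, 1, 0, 0⟩, ⟨0, 0, 1, 1, 2, 0, 0, 1, 0⟩),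
  (⟨2, 2, 0, 0, 1, 0, 0, 1, 2⟩, ⟨0, 1, 1, 0, 0, 1, 1, 0, 2⟩, ⟨0, 1, 1, 1, 2, 0, 0, 1, 0⟩),
  (⟨2, 2, 0, 0, 1, 0, 0, 2, 2⟩, ⟨0, 1, 1, 0, 0, 1, 1, 0, 1⟩, ⟨0, 2, 1, 1, 2, 0, 0, 1, 0⟩),
  (⟨2, 2, 1, 0, 0, 2, 0, 2, 0⟩, ⟨0, 1, 1, 1, 0, 2, 1, 0, 1⟩, ⟨0, 2, 2, 1, 2, 1, 0, 1, 2⟩),
  (⟨2, 2, 1, 0, 1, 1, 0, 0, 2⟩, ⟨0, 1, 1, 1, 0, 1, 1, 0, 0⟩, ⟨0, 0, 1, 1, 2, 1, 0, 1, 2⟩),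
  (⟨2, 2, 1, 0, 2, 0, 0, 1, 1⟩, ⟨0, 1, 1, 1, 0, 0, 1, 0, 2⟩, ⟨0, 1, 0, 1, 2, 1, 0, 1, 2⟩),
  (⟨2, 2, 2, 0, 0, 1, 0, 1, 0⟩, ⟨0, 1, 1, 2, 0, 2, 1, 0, 2⟩, ⟨0, 1, 2, 1, 2, 2, 0, 1, 1⟩),
  (⟨2, 2, 2, 0, 1, 2, 0, 0, 2⟩, ⟨0, 1, 1, 2, 0, 1, 1, 0, 0⟩, ⟨0, 0, 1, 1, 2, 2, 0, 1, 1⟩),
  (⟨2, 2, 2, 0, 2, 0, 0, 2, 1⟩, ⟨0, 1, 1, 2, 0, 0, 1, 0, 1⟩, ⟨0, 2, 0, 1, 2, 2, 0, 1, 1⟩)]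

/-- Elements centralising the standard transvection. -/
def centT0 : List M3 := [
  ⟨1, 0, 0, 0, 1, 0, 0, 0, 1⟩,
  ⟨1, 0, 0, 0, 1, 1, 0, 0, 1⟩,
  ⟨1, 0, 0, 0, 1, 2, 0, 0, 1⟩,
  ⟨1, 0, 1, 0, 1, 0, 0, 0, 1⟩,
  ⟨1, 0, 1, 0, 1, 1, 0, 0, 1⟩,
  ⟨1, 0, 1, 0, 1, 2, 0, 0, 1⟩,
  ⟨1, 0, 2, 0, 1, 0, 0, 0, 1⟩,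
  ⟨1, 0, 2, 0, 1, 1, 0, 0, 1⟩,
  ⟨1, 0, 2, 0, 1, 2, 0, 0, 1⟩,
  ⟨1, 1, 0, 0, 1, 0, 0, 0, 1⟩,
  ⟨1, 1, 0, 0, 1, 1, 0, 0, 1⟩,
  ⟨1, 1, 0, 0, 1, 2, 0, 0, 1⟩,
  ⟨1, 1, 1, 0, 1, 0, 0, 0, 1⟩,
  ⟨1, 1, 1, 0, 1, 1, 0, 0, 1⟩,
  ⟨1, 1, 1, 0, 1, 2, 0, 0, 1⟩,
  ⟨1, 1, 2, 0, 1, 0, 0, 0, 1⟩,
  ⟨1, 1, 2, 0, 1, 1, 0, 0, 1⟩,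
  ⟨1, 1, 2, 0, 1, 2, 0, 0, 1⟩,
  ⟨1, 2, 0, 0, 1, 0, 0, 0, 1⟩,
  ⟨1, 2, 0, 0, 1, 1, 0, 0, 1⟩,
  ⟨1, 2, 0, 0, 1, 2, 0, 0, 1⟩,
  ⟨1, 2, 1, 0, 1, 0, 0, 0, 1⟩,
  ⟨1, 2, 1, 0, 1, 1, 0, 0, 1⟩,
  ⟨1, 2, 1, 0, 1, 2, 0, 0, 1⟩,
  ⟨1, 2, 2, 0, 1, 0, 0, 0, 1⟩,
  ⟨1, 2, 2, 0, 1, 1, 0, 0, 1⟩,
  ⟨1, 2, 2, 0, 1, 2, 0, 0, 1⟩,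
  ⟨2, 0, 0, 0, 1, 0, 0, 0, 2⟩,
  ⟨2, 0, 0, 0, 1, 1, 0, 0, 2⟩,
  ⟨2, 0, 0, 0, 1, 2, 0, 0, 2⟩,
  ⟨2, 0, 1, 0, 1, 0, 0, 0, 2⟩,
  ⟨2, 0, 1, 0, 1, 1, 0, 0, 2⟩,
  ⟨2, 0, 1, 0, 1, 2, 0, 0, 2⟩,
  ⟨2, 0, 2, 0, 1, 0, 0, 0, 2⟩,
  ⟨2, 0, 2, 0, 1, 1, 0, 0, 2⟩,
  ⟨2, 0, 2, 0, 1, 2, 0, 0, 2⟩,
  ⟨2, 1, 0, 0, 1, 0, 0, 0, 2⟩,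
  ⟨2, 1, 0, 0, 1, 1, 0, 0, 2⟩,
  ⟨2, 1, 0, 0, 1, 2, 0, 0, 2⟩,
  ⟨2, 1, 1, 0, 1, 0, 0, 0, 2⟩,
  ⟨2, 1, 1, 0, 1, 1, 0, 0, 2⟩,
  ⟨2, 1, 1, 0, 1, 2, 0, 0, 2⟩,
  ⟨2, 1, 2, 0, 1, 0, 0, 0, 2⟩,
  ⟨2, 1, 2, 0, 1, 1, 0, 0, 2⟩,
  ⟨2, 1, 2, 0, 1, 2, 0, 0, 2⟩,
  ⟨2, 2, 0, 0, 1, 0, 0, 0, 2⟩,
  ⟨2, 2, 0, 0, 1, 1, 0, 0, 2⟩,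
  ⟨2, 2, 0, 0, 1, 2, 0, 0, 2⟩,
  ⟨2, 2, 1, 0, 1, 0, 0, 0, 2⟩,
  ⟨2, 2, 1, 0, 1, 1, 0, 0, 2⟩,
  ⟨2, 2, 1, 0, 1, 2, 0, 0, 2⟩,
  ⟨2, 2, 2, 0, 1, 0, 0, 0, 2⟩,
  ⟨2, 2, 2, 0, 1, 1, 0, 0, 2⟩,
  ⟨2, 2, 2, 0, 1, 2, 0, 0, 2⟩]

/-- Candidates for cyclic vectors. -/
def cyclicVecs : List (ℕ × ℕ × ℕ) := [(1, 0, 0), (0, 1, 0), (0, 0, 1), (1, 1, 0), (1, 0, 1), (0, 1, 1)]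

/-- All rows. -/
def rows : List (ℕ × ℕ × ℕ) := [(0, 0, 0), (0, 0, 1), (0, 0, 2), (0, 1, 0), (0, 1, 1), (0, 1, 2), (0, 2, 0), (0, 2, 1), (0, 2, 2), (1, 0, 0), (1, 0, 1), (1, 0, 2), (1, 1, 0), (1, 1, 1), (1, 1, 2), (1, 2, 0), (1, 2, 1), (1, 2, 2), (2, 0, 0), (2, 0, 1), (2, 0, 2), (2, 1, 0), (2, 1, 1), (2, 1, 2), (2, 2, 0), (2, 2, 1), (2, 2, 2)]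

/-- One case of the classification of matrices. -/
def caseOK (A : M3) : Bool :=
  !Nat.beq (det A) 1 || cyclicVecs.any (fun v => !Nat.beq (det (krylov A v.1 v.2.1 v.2.2)) 0) || eqb A one ||
    tdata.any (fun t => eqb A t.1 || eqb A t.2.1) || idata.any (fun t => eqb A t.1)

theorem classify_check : rows.all (fun r => rows.all (fun s => rows.all (fun t =>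
    caseOK ⟨r.1, r.2.1, r.2.2, s.1, s.2.1, s.2.2, t.1, t.2.1, t.2.2⟩))) = true := by decide +kernel

theorem tdata_check : tdata.all (fun t => Nat.beq (det t.1) 1 && Nat.beq (det t.2.1) 1 && Nat.beq (det t.2.2.1) 1 &&
    Nat.beq (det t.2.2.2) 1 && eqb (mul t.1 t.2.1) one && eqb (mul t.2.2.1 t0) (mul t.1 t.2.2.1) &&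
    eqb (mul t.2.2.1 t.2.2.2) one) = true := by decide +kernel

theorem idata_check : idata.all (fun t => Nat.beq (det t.1) 1 && Nat.beq (det t.2.1) 1 && Nat.beq (det t.2.2) 1 &&
    eqb (mul t.2.1 d0) (mul t.1 t.2.1) && eqb (mul t.2.1 t.2.2) one) = true := by decide +kernel

theorem centT0_check : centT0.all (fun g => Nat.beq (det g) 1 && eqb (mul g t0) (mul t0 g)) = true := by decide +kernel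

/-- A code of a matrix. -/
def code (A : M3) : ℕ :=
  A.a + 3 * (A.b + 3 * (A.c + 3 * (A.d + 3 * (A.e + 3 * (A.f + 3 * (A.g + 3 * (A.h + 3 * A.i)))))))

theorem centT0_nodup : (centT0.map code).Nodup := by decide +kernel

end CfsgLib.Spectrum.L33
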